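import Mathlib
import Cfsg.Agent.Lib.TwoRank.MacWilliams
import Cfsg.Agent.Lib.Critical.Detect
import Cfsg.Agent.S1894

/-!
Tools for 2-groups without self-centralising normal abelian subgroups of rank three, acted on by a
group of automorphisms of odd order without trivial quotients.
-/

set_option autoImplicit false
set_option linter.unusedSectionVars false
set_option linter.style.haveILetI false

namespace CfsgLib.NoSCN

open scoped commutatorElement

variable {X : Type*} [Group X]

/-- No normal abelian subgroup contains an elementary abelian subgroup of order eight. -/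
def NoRankThree (X : Type*) [Group X] : Prop :=
  ∀ B : Subgroup X, B.Normal → IsMulCommutative B →
    ∀ E : Subgroup X, E ≤ B → (∀ a ∈ E, a * a = 1) → Nat.card E ≠ 8

/-- The hypothesis `[X, A] = X`. -/
def Gen (A : Subgroup (MulAut X)) : Prop :=
  Subgroup.closure {g : X | ∃ φ ∈ A, ∃ x : X, g = x⁻¹ * φ x} = ⊤

theorem commute_of_sq {E : Subgroup X} (h : ∀ a ∈ E, a * a = 1) {a b : X} (ha : a ∈ E) (hb : b ∈ E) :
    a * b = b * a := by
  have hab := h _ (mul_mem ha hb)
  calc a * b = (a * b)⁻¹ := (inv_eq_of_mul_eq_one_right hab).symm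
    _ = b * a := by
      rw [mul_inv_rev, inv_eq_of_mul_eq_one_right (h a ha), inv_eq_of_mul_eq_one_right (h b hb)]

theorem noRankThree_of_scn [Finite X] (hX : IsPGroup 2 X)
    (h : ¬ ∃ A : Subgroup X, A.Normal ∧ Subgroup.centralizer (A : Set X) = A ∧
      ∃ E : Subgroup X, E ≤ A ∧ Cfsg.IsElementaryAbelian 2 E ∧ Nat.card E = 8) : NoRankThree X := by
  intro B hBn hBc E hEB hE2 hcard
  haveI : Fact (Nat.Prime 2) := ⟨Nat.prime_two⟩
  haveI := hBn
  obtain ⟨C, hCn, hBC, hC⟩ := Cfsg.Agent.S1894.result hX ⊤ B le_top hBc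
  refine h ⟨C, hCn, by simpa using hC.2.2, E, hEB.trans hBC, ⟨⟨⟨fun a b => ?_⟩⟩, fun a ha => ?_⟩, hcard⟩
  · exact Subtype.ext (commute_of_sq hE2 a.2 b.2)
  · rw [pow_two]; exact hE2 a ha

theorem noEight [Finite X] (hX : IsPGroup 2 X) (h : NoRankThree X) : CfsgLib.TwoRank.NoEight X := by
  intro A hAn hAc hA2
  by_contra hgt
  haveI : Fact (Nat.Prime 2) := ⟨Nat.prime_two⟩
  obtain ⟨n, hn⟩ := IsPGroup.iff_card.mp (hX.to_subgroup A)
  have hn3 : 3 ≤ n := by
    by_contra hc
    interval_cases n <;> omega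
  obtain ⟨D, hD⟩ := Sylow.exists_subgroup_card_pow_prime (G := A) 2 (hn ▸ pow_dvd_pow 2 hn3)
  refine h A hAn hAc (D.map A.subtype) (Subgroup.map_subtype_le D) ?_ ?_
  · rintro _ ⟨a, -, rfl⟩
    simpa [pow_two] using hA2 _ a.2
  · rw [Subgroup.card_map_of_injective (Subgroup.subtype_injective A), hD]
    norm_num

theorem card_two_mul_le [Finite X] {B A : Subgroup X} (h : B ≤ A) {a : X} (ha : a ∈ A) (hb : a ∉ B) :
    2 * Nat.card B ≤ Nat.card A := by
  obtain ⟨k, hk⟩ := Subgroup.card_dvd_of_le h
  have hpos : 0 < Nat.card A := Nat.card_pos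
  rcases Nat.lt_or_ge k 2 with hk2 | hk2
  · interval_cases k
    · omega
    · exact absurd ((Subgroup.eq_of_le_of_card_ge h (by omega)).symm ▸ ha : a ∈ B) hb
  · calc 2 * Nat.card B ≤ k * Nat.card B := Nat.mul_le_mul_right _ hk2
      _ = Nat.card A := by rw [hk, mul_comm]

/-- An involution of a normal abelian subgroup lies in a four-group contained in it. -/
theorem mem_four [Finite X] (h : NoRankThree X) {B : Subgroup X} (hBn : B.Normal) (hBc : IsMulCommutative B)
    {E : Subgroup X} (hEB : E ≤ B) (hE2 : ∀ a ∈ E, a * a = 1) (hE : Nat.card E = 4) {x : X}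
    (hx : x ∈ B) (hx2 : x * x = 1) : x ∈ E := by
  by_contra hxE
  have hc : ∀ a ∈ B, ∀ b ∈ B, a * b = b * a := fun a ha b hb =>
    congrArg Subtype.val (hBc.is_comm.comm ⟨a, ha⟩ ⟨b, hb⟩)
  let D : Subgroup X :=
    { carrier := {g | g ∈ E ∨ g * x ∈ E}
      one_mem' := Or.inl (one_mem E)
      mul_mem' := by
        have hxr : ∀ {a : X}, a * x ∈ E → a ∈ B := fun {a} ha => by
          have := mul_mem (hEB ha) (inv_mem hx)
          simpa using this
        rintro a b (ha | ha) (hb | hb)
        · exact Or.inl (mul_mem ha hb)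
        · exact Or.inr (by rw [mul_assoc]; exact mul_mem ha hb)
        · refine Or.inr ?_
          rw [mul_assoc, hc b (hEB hb) x hx, ← mul_assoc]
          exact mul_mem ha hb
        · refine Or.inl ?_
          have e : a * b = (a * x) * (b * x) := by
            calc a * b = a * b * (x * x) := by rw [hx2, mul_one]
              _ = a * (b * x) * x := by group
              _ = a * (x * (b * x)) := by rw [mul_assoc, hc (b * x) (hEB hb) x hx]
              _ = (a * x) * (b * x) := by group
          rw [e]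
          exact mul_mem ha hb
      inv_mem' := by
        rintro a (ha | ha)
        · exact Or.inl (inv_mem ha)
        · refine Or.inr ?_
          have haB : a ∈ B := by
            have := mul_mem (hEB ha) (inv_mem hx)
            simpa using this
          have e : a⁻¹ * x = (a * x)⁻¹ := by
            calc a⁻¹ * x = a⁻¹ * x⁻¹ := by rw [inv_eq_of_mul_eq_one_right hx2]
              _ = (x * a)⁻¹ := by rw [mul_inv_rev]
              _ = (a * x)⁻¹ := by rw [hc a haB x hx]
          rw [e]
          exact inv_mem ha }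
  have hDB : D ≤ B := by
    rintro g (hg | hg)
    · exact hEB hg
    · have := mul_mem (hEB hg) (inv_mem hx)
      simpa using this
  refine h B hBn hBc D hDB ?_ ?_
  · rintro g (hg | hg)
    · exact hE2 g hg
    · have hgB : g ∈ B := hDB (Or.inr hg)
      have := hE2 _ hg
      rwa [show g * x * (g * x) = g * (x * g) * x by group, ← hc g hgB x hx,
        show g * (g * x) * x = (g * g) * (x * x) by group, hx2, mul_one] at this
  · let F : E × Bool → D := fun p => if p.2 then ⟨p.1 * x, Or.inr (by
      rw [mul_assoc, hx2, mul_one]; exact p.1.2)⟩ else ⟨p.1, Or.inl p.1.2⟩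
    have hF : Function.Bijective F := by
      constructor
      · rintro ⟨a, i⟩ ⟨b, j⟩ e
        cases i <;> cases j <;> simp [F] at e
        · exact Prod.ext e rfl
        · refine absurd ?_ hxE
          have h2 := mul_mem (inv_mem b.2) (e ▸ a.2 : (b : X) * x ∈ E)
          simpa using h2
        · refine absurd ?_ hxE
          have h2 := mul_mem (inv_mem a.2) (e.symm ▸ b.2 : (a : X) * x ∈ E)
          simpa using h2
        · exact Prod.ext e rfl
      · rintro ⟨g, hg⟩
        by_cases hgE : g ∈ E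
        · exact ⟨(⟨g, hgE⟩, false), by simp [F]⟩
        · exact ⟨(⟨g * x, hg.resolve_left hgE⟩, true), Subtype.ext (by simp [F, mul_assoc, hx2])⟩
    rw [← Nat.card_eq_of_bijective F hF]
    simp [hE]

/-- An index two subgroup is not invariant under `A`. -/
theorem no_index_two {A : Subgroup (MulAut X)} (hG : Gen A) (N : Subgroup X) (hN : N.index = 2)
    (hinv : ∀ φ ∈ A, ∀ x ∈ N, φ x ∈ N) : False := by
  have hle : Subgroup.closure {g : X | ∃ φ ∈ A, ∃ x : X, g = x⁻¹ * φ x} ≤ N := by
    rw [Subgroup.closure_le]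
    rintro _ ⟨φ, hφ, x, rfl⟩
    rw [SetLike.mem_coe, Subgroup.mul_mem_iff_of_index_two hN, inv_mem_iff]
    refine ⟨fun h => hinv φ hφ x h, fun h => ?_⟩
    have := hinv φ⁻¹ (inv_mem hφ) _ h
    simpa using this
  rw [show Subgroup.closure {g : X | ∃ φ ∈ A, ∃ x : X, g = x⁻¹ * φ x} = ⊤ from hG] at hle
  rw [top_le_iff.1 hle, Subgroup.index_top] at hN
  omega

/-- No coset outside `N` is fixed by `A`, if the quotient by `N` has exponent two. -/
theorem no_fixed_coset [Finite X] {A : Subgroup (MulAut X)} (hG : Gen A) (hA : Odd (Nat.card A))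
    (N : Subgroup X) [N.Normal] (hsq : ∀ x : X, x * x ∈ N)
    (s : X) (hs : ∀ φ ∈ A, s⁻¹ * φ s ∈ N) : s ∈ N := by
  classical
  haveI : Finite (MulAut X) := Finite.of_injective _ MulEquiv.toEquiv_injective
  haveI := Fintype.ofFinite A
  have hq : ∀ a : X ⧸ N, a * a = 1 := fun a => by
    obtain ⟨x, rfl⟩ := QuotientGroup.mk'_surjective N a
    rw [← map_mul]
    exact (QuotientGroup.eq_one_iff _).2 (hsq x)
  letI : CommGroup (X ⧸ N) :=
    { (inferInstance : Group (X ⧸ N)) with
      mul_comm := fun a b => by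
        calc a * b = (a * b)⁻¹ := (inv_eq_of_mul_eq_one_right (hq _)).symm
          _ = b * a := by
            rw [mul_inv_rev, inv_eq_of_mul_eq_one_right (hq a), inv_eq_of_mul_eq_one_right (hq b)] }
  let f : A → X →* X ⧸ N := fun φ => (QuotientGroup.mk' N).comp (φ : MulAut X).toMonoidHom
  have hτ : (∏ φ : A, f φ) = 1 := by
    refine MonoidHom.eq_of_eqOn_dense hG ?_
    rintro _ ⟨ψ, hψ, x, rfl⟩
    rw [MonoidHom.one_apply, MonoidHom.finsetProd_apply]
    simp only [map_mul, map_inv, Finset.prod_mul_distrib, Finset.prod_inv_distrib]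
    rw [inv_mul_eq_one]
    refine (Fintype.prod_equiv (Equiv.mulRight (⟨ψ, hψ⟩ : A)) _ _ fun φ => ?_).symm
    simp [f]
  have h1 := DFunLike.congr_fun hτ s
  rw [MonoidHom.one_apply, MonoidHom.finsetProd_apply] at h1
  have h2 : ∀ φ : A, f φ s = QuotientGroup.mk' N s := fun φ => by
    simp only [f, MonoidHom.comp_apply, MulEquiv.coe_toMonoidHom]
    exact ((QuotientGroup.mk'_eq_mk' N).2 ⟨_, hs φ φ.2, by group⟩).symm
  rw [Finset.prod_congr rfl fun φ _ => h2 φ, Finset.prod_const, Finset.card_univ,
    ← Nat.card_eq_fintype_card] at h1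
  obtain ⟨m, hm⟩ := hA
  rw [hm, pow_succ, pow_mul, pow_two, hq, one_pow, one_mul] at h1
  exact (QuotientGroup.eq_one_iff s).1 h1

end CfsgLib.NoSCN
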