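import Cfsg.Agent.Lib.NoSCN.Pair
import Cfsg.Agent.Lib.SixtyFour.Eight
import Cfsg.Agent.Lib.OddOmega.Basic
import Cfsg.Agent.S0119

/-!
The case where `A` is trivial on the characteristic abelian subgroups.
-/

set_option autoImplicit false
set_option linter.unusedSectionVars false
set_option linter.style.haveILetI false

namespace CfsgLib.NoSCN

open scoped commutatorElement

variable {X : Type*} [Group X] [Finite X]

/-- The three possibilities of the theorem. -/
def Concl (X : Type*) [Group X] : Prop :=
  Nonempty (X ≃* QuaternionGroup 2) ∨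
    (Cfsg.IsSpecial 2 X ∧ Nat.card X = 64 ∧ Nat.card {x : X // orderOf x = 2} = 3 ∧
      ∀ x : X, orderOf x = 2 → x ∈ Subgroup.center X) ∨
    (Cfsg.IsExtraspecial 2 X ∧ Nat.card X = 32 ∧ Nat.card {x : X // orderOf x = 2} = 11)

theorem orderOf_two_iff {x : X} : orderOf x = 2 ↔ x * x = 1 ∧ x ≠ 1 := by
  haveI : Fact (Nat.Prime 2) := ⟨Nat.prime_two⟩
  rw [orderOf_eq_prime_iff, pow_two]

/-- A group of involutions containing all the involutions. -/
theorem count_three {E : Subgroup X} (hcard : Nat.card E = 4) (h2 : ∀ a ∈ E, a * a = 1)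
    (hall : ∀ x : X, x * x = 1 → x ∈ E) : Nat.card {x : X // orderOf x = 2} = 3 := by
  classical
  haveI := Fintype.ofFinite X
  have e : (Finset.univ.filter fun x : X => orderOf x = 2) = (Finset.univ.filter fun x => x ∈ E).erase 1 := by
    ext x
    simp only [Finset.mem_filter, Finset.mem_univ, true_and, Finset.mem_erase, orderOf_two_iff]
    exact ⟨fun h => ⟨h.2, hall x h.1⟩, fun h => ⟨h2 x h.2, h.1⟩⟩
  rw [Nat.card_eq_fintype_card, Fintype.card_subtype, e, Finset.card_erase_of_mem (by simp),
    ← Fintype.card_subtype, ← Nat.card_eq_fintype_card]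
  omega

variable (hc : ∀ a b : X, ⁅a, b⁆ ∈ Subgroup.center X)
include hc

/-- For index four every commutator is a power of a single one. -/
theorem comm_mem_of_index_four (h4 : Nat.card X = 4 * Nat.card (Subgroup.center X)) {x y : X}
    (hxy : ⁅x, y⁆ ≠ 1) (a b : X) : ⁅a, b⁆ ∈ Subgroup.zpowers ⁅x, y⁆ := by
  set Z := Subgroup.center X with hZ
  set M := Subgroup.zpowers ⁅x, y⁆ with hM
  have hxZ : x ∉ Z := fun h =>
    hxy (commutatorElement_eq_one_iff_mul_comm.2 (Subgroup.mem_center_iff.1 h y).symm)
  have gen : ∀ K : Subgroup X, Z ≤ K → x ∈ K → y ∈ K → K = ⊤ := by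
    intro K hK hx hy
    let L := K ⊓ Subgroup.centralizer {x}
    have hZL : Z ≤ L := le_inf hK (Subgroup.center_le_centralizer _)
    have hxL : x ∈ L := ⟨hx, Subgroup.mem_centralizer_singleton_iff.2 rfl⟩
    have hyL : y ∉ L := fun h => hxy (commutatorElement_eq_one_iff_mul_comm.2
      (Subgroup.mem_centralizer_singleton_iff.1 h.2).symm)
    have h1 := card_two_mul_le hZL hxL hxZ
    have h2 := card_two_mul_le (B := L) (A := K) inf_le_left hy hyL
    exact Subgroup.eq_top_of_le_card K (by omega)
  have hself : ∀ g : X, ⁅g, g⁆ ∈ M := fun g => by rw [commutatorElement_self]; exact one_mem M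
  have hx : commPre hc M x = ⊤ := gen _ (center_le_commPre hc M x) (hself x)
    (by rw [mem_commPre, ← commutatorElement_inv]; exact inv_mem (Subgroup.mem_zpowers _))
  have hy : commPre hc M y = ⊤ := gen _ (center_le_commPre hc M y) (Subgroup.mem_zpowers _) (hself y)
  refine (show a ∈ commPre hc M b from ?_)
  have h' : ∀ u ∈ ({x, y} : Set X), ⁅u, b⁆ ∈ M := by
    intro u hu
    rw [← commutatorElement_inv]
    refine inv_mem ?_
    rcases hu with rfl | hu
    · exact (hx ▸ Subgroup.mem_top b : b ∈ commPre hc M u)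
    · rw [Set.mem_singleton_iff] at hu
      subst hu
      exact (hy ▸ Subgroup.mem_top b : b ∈ commPre hc M u)
  rw [gen _ (center_le_commPre hc M b) (h' x (by simp)) (h' y (by simp))]
  exact Subgroup.mem_top a

/-- For index eight a subgroup `M` of index two in the centre determines a coset of the centre. -/
theorem exists_coset (hsq : ∀ x : X, x * x ∈ Subgroup.center X)
    (h8 : Nat.card X = 8 * Nat.card (Subgroup.center X)) {M : Subgroup X}
    (hM : M ≤ Subgroup.center X) (hcard : Nat.card (Subgroup.center X) = 2 * Nat.card M)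
    {x y : X} (hxy : ⁅x, y⁆ ∉ M) : ∃ c : X, c ∉ Subgroup.center X ∧ (∀ a : X, ⁅a, c⁆ ∈ M) ∧
      ∀ d : X, (∀ a : X, ⁅a, d⁆ ∈ M) → d ∈ Subgroup.center X ∨ c⁻¹ * d ∈ Subgroup.center X := by
  set Z := Subgroup.center X with hZ
  have hpos : 0 < Nat.card Z := Nat.card_pos
  have hidx := fun u => index_commPre_le hc hM hcard.le u
  have hxx : ∀ g : X, ⁅g, g⁆ ∈ M := fun g => by rw [commutatorElement_self]; exact one_mem M
  have hyx : ⁅y, x⁆ ∉ M := fun h => hxy (by rw [← commutatorElement_inv]; exact inv_mem h)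
  obtain ⟨c, ⟨hcx, hcy⟩, hcZ⟩ : ∃ c ∈ commPre hc M x ⊓ commPre hc M y, c ∉ Z := by
    by_contra hno
    push Not at hno
    have h1 : Nat.card ↥(commPre hc M x ⊓ commPre hc M y) ≤ Nat.card Z := Subgroup.card_le_of_le hno
    have h2 := (commPre hc M x ⊓ commPre hc M y).card_mul_index
    have h3 : (commPre hc M x ⊓ commPre hc M y).index ≤ 2 * 2 :=
      Subgroup.index_inf_le.trans (Nat.mul_le_mul (hidx x) (hidx y))
    have h4 := Nat.mul_le_mul h1 h3
    rw [h2] at h4
    omega
  have hxc : ⁅x, c⁆ ∈ M := by rw [← commutatorElement_inv]; exact inv_mem hcx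
  have hyc : ⁅y, c⁆ ∈ M := by rw [← commutatorElement_inv]; exact inv_mem hcy
  have hctop : commPre hc M c = ⊤ := by
    let L1 := commPre hc M c ⊓ (commPre hc M x ⊓ commPre hc M y)
    let L2 := commPre hc M c ⊓ commPre hc M x
    have hZL1 : Z ≤ L1 := le_inf (center_le_commPre hc M c)
      (le_inf (center_le_commPre hc M x) (center_le_commPre hc M y))
    have h1 := card_two_mul_le hZL1 (a := c) ⟨hxx c, hcx, hcy⟩ hcZ
    have h2 := card_two_mul_le (B := L1) (A := L2) (fun g hg => ⟨hg.1, hg.2.1⟩) (a := x) ⟨hxc, hxx x⟩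
      (fun h => hxy h.2.2)
    have h3 := card_two_mul_le (B := L2) (A := commPre hc M c) inf_le_left (a := y) hyc
      (fun h => hyx h.2)
    exact Subgroup.eq_top_of_le_card _ (by omega)
  -- the subgroup of such elements
  let R : Subgroup X :=
    { carrier := {g | ∀ a : X, ⁅a, g⁆ ∈ M}
      one_mem' := fun a => by rw [commutatorElement_one_right]; exact one_mem M
      mul_mem' := fun {g h} hg hh a => by rw [comm_mul_right hc]; exact mul_mem (hg a) (hh a)
      inv_mem' := fun {g} hg a => by
        have e := comm_mul_right hc a g g⁻¹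
        rw [mul_inv_cancel, commutatorElement_one_right] at e
        rw [show ⁅a, g⁻¹⁆ = ⁅a, g⁆⁻¹ from (eq_inv_of_mul_eq_one_right e.symm)]
        exact inv_mem (hg a) }
  have hcR : c ∈ R := fun a => (hctop ▸ Subgroup.mem_top a : a ∈ commPre hc M c)
  have hZR : Z ≤ R := fun z hz a => by
    rw [commutatorElement_eq_one_iff_mul_comm.2 (Subgroup.mem_center_iff.1 hz a)]
    exact one_mem M
  have hcoset : ∀ d ∈ R, d ∈ pairSub Z c := by
    intro d hd
    by_contra hdP
    let L1 := R ⊓ pairSub Z c
    have h1 := card_two_mul_le (B := Z) (A := L1) (le_inf hZR (le_pairSub Z c)) (a := c)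
      ⟨hcR, self_mem_pairSub Z c⟩ hcZ
    have h2 := card_two_mul_le (B := L1) (A := R) inf_le_left (a := d) hd (fun h => hdP h.2)
    have h3 : R.index ≤ 2 := by
      have h4 := R.card_mul_index
      nlinarith
    have hxR : x ∉ R := fun h => hyx (h y)
    have hyR : y ∉ R := fun h => hxy (h x)
    have hR2 : R.index = 2 := by
      have h5 : R.index ≠ 1 := fun h => hxR (by rw [Subgroup.index_eq_one.1 h]; exact Subgroup.mem_top x)
      have h6 : R.index ≠ 0 := Subgroup.FiniteIndex.index_ne_zero
      omega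
    have hmul : x * y ∈ R := (Subgroup.mul_mem_iff_of_index_two hR2).2 (iff_of_false hxR hyR)
    have h7 := hmul x
    rw [comm_mul_right hc, commutatorElement_self, one_mul] at h7
    exact hxy h7
  exact ⟨c, hcZ, hcR, fun d hd => mem_pairSub (hsq c) (hcoset d hd)⟩

variable {A : Subgroup (MulAut X)} (hA : Odd (Nat.card A)) (hG : Gen A)
  (hsq : ∀ x : X, x * x ∈ Subgroup.center X)
  (hfix : ∀ φ ∈ A, ∀ z ∈ Subgroup.center X, φ z = z)
include hA hG hsq hfix

/-- The index eight is impossible. -/
theorem index_eight_false (h8 : Nat.card X = 8 * Nat.card (Subgroup.center X)) {M : Subgroup X}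
    (hM : M ≤ Subgroup.center X) (hcard : Nat.card (Subgroup.center X) = 2 * Nat.card M)
    {x y : X} (hxy : ⁅x, y⁆ ∉ M) : False := by
  obtain ⟨c, hcZ, hcR, huniq⟩ := exists_coset hc hsq h8 hM hcard hxy
  refine hcZ (no_fixed_coset hG hA _ hsq c fun φ hφ => ?_)
  have hφc : ∀ a : X, ⁅a, φ c⁆ ∈ M := fun a => by
    have h := hcR (φ⁻¹ a)
    rw [show ⁅a, φ c⁆ = φ ⁅φ⁻¹ a, c⁆ by simp [map_commutatorElement], hfix φ hφ _ (hM h)]
    exact h
  rcases huniq _ hφc with h | h
  · refine absurd ?_ hcZ
    have h2 := hfix φ⁻¹ (inv_mem hφ) _ h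
    rw [MulAut.inv_apply_self] at h2
    rwa [h2]
  · exact h

omit hA hG hsq hfix

/-- The order eight leaves only the quaternion group. -/
theorem eight_quaternion {A : Subgroup (MulAut X)} (hA : Odd (Nat.card A)) (hG : Gen A)
    (hsq : ∀ x : X, x * x ∈ Subgroup.center X) (hna : ¬ IsMulCommutative X) (h8 : Nat.card X = 8) :
    Nonempty (X ≃* QuaternionGroup 2) := by
  rcases CfsgLib.SixtyFour.eight_dihedral_or_quaternion h8 hna with ⟨⟨f⟩⟩ | h
  · exfalso
    have hd : ∀ g : DihedralGroup 4, g * g ≠ 1 →
        ((DihedralGroup.r 1)⁻¹ * g = 1 ∨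
          (DihedralGroup.r 1)⁻¹ * g = DihedralGroup.r 1 * DihedralGroup.r 1) := by decide
    set r := f.symm (DihedralGroup.r 1) with hr
    have hrZ : r ∈ Subgroup.center X := by
      refine no_fixed_coset hG hA _ hsq r fun φ _ => ?_
      have h1 : f (φ r) * f (φ r) ≠ 1 := by
        rw [← map_mul, ← map_mul, hr, ← map_mul]
        simp only [ne_eq, map_eq_one_iff _ f.injective, map_eq_one_iff _ φ.injective,
          map_eq_one_iff _ f.symm.injective]
        decide
      rcases hd _ h1 with h | h
      · have : r⁻¹ * φ r = 1 := f.injective (by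
          rw [map_mul, map_inv, map_one]; simpa [hr] using h)
        rw [this]
        exact one_mem _
      · have : r⁻¹ * φ r = r * r := f.injective (by
          rw [map_mul, map_inv, map_mul]; simpa [hr] using h)
        rw [this]
        exact hsq r
    have h2 := congrArg f (Subgroup.mem_center_iff.1 hrZ (f.symm (DihedralGroup.sr 0)))
    rw [map_mul, map_mul, hr, MulEquiv.apply_symm_apply, MulEquiv.apply_symm_apply] at h2
    revert h2
    decide
  · exact h

/-- With a four-group centre and index sixteen every involution is central. -/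
theorem involution_central (hno : NoRankThree X) (hsq : ∀ x : X, x * x ∈ Subgroup.center X)
    (hZ2 : ∀ z ∈ Subgroup.center X, z * z = 1) (hZ : Nat.card (Subgroup.center X) = 4) {t : X}
    (ht : t * t = 1) : t ∈ Subgroup.center X := by
  haveI := pairSub_normal (N := Subgroup.center X) hc t
  exact mem_four hno (B := pairSub (Subgroup.center X) t) inferInstance
    (pairSub_comm (fun a ha b _ => (Subgroup.mem_center_iff.1 ha b).symm)
      (fun a ha => Subgroup.mem_center_iff.1 ha t) (hsq t))
    (le_pairSub _ t) hZ2 hZ (self_mem_pairSub _ t) ht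

/-- The extraspecial group of order 32 has eleven involutions. -/
theorem count_eleven (hno : NoRankThree X) (hsq : ∀ x : X, x * x ∈ Subgroup.center X)
    (hX32 : Nat.card X = 32) (hZ : Nat.card (Subgroup.center X) = 2) :
    Nat.card {x : X // orderOf x = 2} = 11 := by
  classical
  haveI := Fintype.ofFinite X
  set Z := Subgroup.center X with hZdef
  obtain ⟨⟨z, hzZ⟩, hz1⟩ := Finite.one_lt_card_iff_nontrivial.1 (show 1 < Nat.card Z by omega)
    |> fun h => @exists_ne _ h (1 : Z)
  have hz1' : z ≠ 1 := fun h => hz1 (Subtype.ext h)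
  have hZc : ∀ g ∈ Z, g = 1 ∨ g = z := by
    intro g hg
    by_contra h
    push Not at h
    haveI := Fintype.ofFinite Z
    have h3 : ({1, ⟨z, hzZ⟩, ⟨g, hg⟩} : Finset Z).card = 3 := by
      simp [hz1'.symm, h.1.symm, h.2.symm, Subtype.ext_iff]
    have := Finset.card_le_univ ({1, ⟨z, hzZ⟩, ⟨g, hg⟩} : Finset Z)
    rw [← Nat.card_eq_fintype_card, hZ, h3] at this
    omega
  have hzz : z * z = 1 := by
    rcases hZc _ (mul_mem hzZ hzZ) with h | h
    · exact h
    · exact absurd (mul_eq_left.1 h) hz1'
  have hci : ∀ u, u ∉ Z → (Subgroup.centralizer ({u} : Set X)).index = 2 := by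
    intro u hu
    have he : Subgroup.centralizer ({u} : Set X) = commPre hc ⊥ u := by
      ext g
      rw [mem_commPre, Subgroup.mem_bot, Subgroup.mem_centralizer_singleton_iff,
        commutatorElement_eq_one_iff_mul_comm]
    have h1 := index_commPre_le hc (M := ⊥) (k := 2) bot_le (le_of_eq (by rw [Subgroup.card_bot, mul_one]; exact hZ)) u
    rw [← he] at h1
    have h2 : (Subgroup.centralizer ({u} : Set X)).index ≠ 1 := fun h => hu (by
      rw [Subgroup.index_eq_one] at h
      exact Subgroup.mem_center_iff.2 fun g =>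
        Subgroup.mem_centralizer_singleton_iff.1 (h ▸ Subgroup.mem_top g))
    have h3 : (Subgroup.centralizer ({u} : Set X)).index ≠ 0 := Subgroup.FiniteIndex.index_ne_zero
    omega
  -- an involution outside the centre
  obtain ⟨t, htZ, ht⟩ : ∃ t, t ∉ Z ∧ t * t = 1 := by
    by_contra hall
    push Not at hall
    have hsqz : ∀ u, u ∉ Z → u * u = z := fun u hu =>
      (hZc _ (hsq u)).resolve_left (hall u hu)
    obtain ⟨x, hx⟩ : ∃ x, x ∉ Z := by
      by_contra h
      push Not at h
      have : Z = ⊤ := eq_top_iff.2 fun g _ => h g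
      rw [this, Subgroup.card_top] at hZ
      omega
    obtain ⟨y, hy, hyP⟩ : ∃ y ∈ Subgroup.centralizer ({x} : Set X), y ∉ pairSub Z x := by
      by_contra h
      push Not at h
      have h1 := (Subgroup.centralizer ({x} : Set X)).card_mul_index
      rw [hci x hx, hX32] at h1
      have h4 : ∀ g ∈ Subgroup.centralizer ({x} : Set X), g ∈ ({1, z, x, x * z} : Finset X) := by
        intro g hg
        rcases mem_pairSub (hsq x) (h g hg) with h5 | h5
        · rcases hZc _ h5 with rfl | rfl <;> simp
        · rcases hZc _ h5 with h6 | h6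
          · simp [inv_mul_eq_one.1 h6]
          · simp [inv_mul_eq_iff_eq_mul.1 h6]
      have h7 : Nat.card (Subgroup.centralizer ({x} : Set X)) ≤ 4 := by
        rw [Nat.card_eq_fintype_card, Fintype.card_subtype]
        refine (Finset.card_le_card fun g hg => h4 g (Finset.mem_filter.1 hg).2).trans ?_
        exact Finset.card_le_four
      omega
    have hyx := Subgroup.mem_centralizer_singleton_iff.1 hy
    have hxyZ : x * y ∉ Z := fun h => hyP (by
      have := mul_mem (inv_mem (self_mem_pairSub Z x)) (le_pairSub Z x h)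
      simpa using this)
    refine hall _ hxyZ ?_
    calc x * y * (x * y) = x * (y * x) * y := by group
      _ = (x * x) * (y * y) := by rw [hyx]; group
      _ = 1 := by rw [hsqz x hx, hsqz y (fun h => hyP (le_pairSub Z x h)), hzz]
  haveI := pairSub_normal (N := Z) hc t
  set B := pairSub Z t with hB
  set C := Subgroup.centralizer ({t} : Set X) with hC
  have hBc : IsMulCommutative B :=
    pairSub_comm (fun a ha b _ => (Subgroup.mem_center_iff.1 ha b).symm)
      (fun a ha => Subgroup.mem_center_iff.1 ha t) (hsq t)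
  have hBmem : ∀ g ∈ B, g = 1 ∨ g = z ∨ g = t ∨ g = t * z := by
    intro g hg
    rcases mem_pairSub (hsq t) hg with h | h
    · rcases hZc _ h with h | h <;> tauto
    · rcases hZc _ h with h | h
      · exact Or.inr (Or.inr (Or.inl (inv_mul_eq_one.1 h).symm))
      · exact Or.inr (Or.inr (Or.inr (inv_mul_eq_iff_eq_mul.1 h)))
  have hB2 : ∀ g ∈ B, g * g = 1 := by
    intro g hg
    rcases hBmem g hg with rfl | rfl | rfl | rfl
    · exact one_mul 1
    · exact hzz
    · exact ht
    · calc t * z * (t * z) = t * (z * t) * z := by group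
        _ = (t * t) * (z * z) := by rw [← Subgroup.mem_center_iff.1 hzZ t]; group
        _ = 1 := by rw [ht, hzz, one_mul]
  have htne : t ≠ 1 := fun h => htZ (h ▸ one_mem Z)
  have htz : t ≠ z := fun h => htZ (h ▸ hzZ)
  have hfour : ({1, z, t, t * z} : Finset X).card = 4 := by
    have a1 : t * z ≠ 1 := fun h => htz (by
      calc t = t * (z * z) := by rw [hzz, mul_one]
        _ = z := by rw [← mul_assoc, h, one_mul])
    have a2 : t * z ≠ z := fun h => htne (mul_eq_right.1 h)
    have a3 : t * z ≠ t := fun h => hz1' (mul_eq_left.1 h)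
    simp [hz1'.symm, htne.symm, htz.symm, a1.symm, a2.symm, a3.symm]
  have hBfin : (Finset.univ.filter fun g => g ∈ B) = ({1, z, t, t * z} : Finset X) := by
    ext g
    simp only [Finset.mem_filter, Finset.mem_univ, true_and, Finset.mem_insert, Finset.mem_singleton]
    refine ⟨hBmem g, ?_⟩
    rintro (rfl | rfl | rfl | rfl)
    · exact one_mem B
    · exact le_pairSub Z t hzZ
    · exact self_mem_pairSub Z _
    · exact mul_mem (self_mem_pairSub Z t) (le_pairSub Z t hzZ)
  have hB4 : Nat.card B = 4 := by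
    rw [Nat.card_eq_fintype_card, Fintype.card_subtype, hBfin, hfour]
  have hBC : B ≤ C := fun g hg => Subgroup.mem_centralizer_singleton_iff.2
    (congrArg Subtype.val (hBc.is_comm.comm ⟨g, hg⟩ ⟨t, self_mem_pairSub Z t⟩))
  -- inside the centraliser
  have hin : ∀ s ∈ C, s * s = 1 → s ∈ B := by
    intro s hs hs2
    have hsB : ∀ a ∈ B, s * a = a * s := by
      intro a ha
      have h := Subgroup.mem_centralizer_singleton_iff.1 hs
      rcases mem_pairSub (hsq t) ha with h5 | h5
      · exact Subgroup.mem_center_iff.1 h5 s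
      · calc s * a = (s * t) * (t⁻¹ * a) := by group
          _ = t * (s * (t⁻¹ * a)) := by rw [h]; group
          _ = t * ((t⁻¹ * a) * s) := by rw [Subgroup.mem_center_iff.1 h5 s]
          _ = a * s := by group
    haveI := pairSub_normal (N := B) (fun a b => le_pairSub Z t (hc a b)) s
    exact mem_four hno (B := pairSub B s) inferInstance
      (pairSub_comm (fun a ha b hb => congrArg Subtype.val (hBc.is_comm.comm ⟨a, ha⟩ ⟨b, hb⟩))
        hsB (by rw [hs2]; exact one_mem B))
      (le_pairSub B s) hB2 hB4 (self_mem_pairSub B s) hs2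
  -- outside it exactly one of `g` and `g * t` is an involution
  let S := Finset.univ.filter fun g : X => g ∉ C ∧ g * g = 1
  let S' := Finset.univ.filter fun g : X => g ∉ C ∧ g * g ≠ 1
  have hout : ∀ g, g ∉ C → (g * t * (g * t) = 1 ↔ g * g ≠ 1) := by
    intro g hg
    have hk : ⁅t, g⁆ = z := (hZc _ (hc t g)).resolve_left fun h => hg
      (Subgroup.mem_centralizer_singleton_iff.2 (commutatorElement_eq_one_iff_mul_comm.1 h).symm)
    have e : g * t * (g * t) = (g * g) * z := by
      calc g * t * (g * t) = g * (⁅t, g⁆ * g) * (t * t) := by simp [commutatorElement_def]; group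
        _ = g * (z * g) := by rw [hk, ht, mul_one]
        _ = (g * g) * z := by rw [← Subgroup.mem_center_iff.1 hzZ g, mul_assoc]
    rcases hZc _ (hsq g) with h | h
    · rw [e, h, one_mul]; simp [hz1']
    · rw [e, h, hzz]; simp [hz1']
  have htC : ∀ g, g * t ∈ C ↔ g ∈ C := fun g =>
    Subgroup.mul_mem_cancel_right C (Subgroup.mem_centralizer_singleton_iff.2 rfl)
  have hSS : S.card = S'.card := by
    refine Finset.card_bij (fun g _ => g * t) ?_ (fun a _ b _ h => mul_right_cancel h) ?_
    · intro g hg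
      simp only [S, S', Finset.mem_filter, Finset.mem_univ, true_and] at hg ⊢
      exact ⟨fun h => hg.1 ((htC g).1 h), fun h => (hout g hg.1).1 h hg.2⟩
    · intro g hg
      simp only [S, S', Finset.mem_filter, Finset.mem_univ, true_and] at hg ⊢
      exact ⟨g * t, ⟨fun h => hg.1 ((htC g).1 h), (hout g hg.1).2 hg.2⟩, by rw [mul_assoc, ht, mul_one]⟩
  have hsum : S.card + S'.card = (Finset.univ.filter fun g : X => g ∉ C).card := by
    simp only [S, S', ← Finset.filter_filter]
    exact Finset.card_filter_add_card_filter_not (s := Finset.univ.filter fun g : X => g ∉ C)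
      (fun g => g * g = 1)
  have hC16 : (Finset.univ.filter fun g : X => g ∈ C).card = 16 := by
    have h1 := C.card_mul_index
    rw [hC, hci t htZ, hX32] at h1
    rw [← Fintype.card_subtype, ← Nat.card_eq_fintype_card]
    change Nat.card (Subgroup.centralizer ({t} : Set X)) = 16
    omega
  have hCc := Finset.card_filter_add_card_filter_not (s := (Finset.univ : Finset X)) (fun g => g ∈ C)
  rw [hC16, Finset.card_univ, ← Nat.card_eq_fintype_card, hX32] at hCc
  have e : (Finset.univ.filter fun x : X => orderOf x = 2)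
      = ((Finset.univ.filter fun g => g ∈ B).erase 1) ∪ S := by
    ext x
    simp only [S, Finset.mem_filter, Finset.mem_univ, true_and, Finset.mem_erase, Finset.mem_union,
      orderOf_two_iff]
    refine ⟨fun h => ?_, ?_⟩
    · by_cases hx : x ∈ C
      · exact Or.inl ⟨h.2, hin x hx h.1⟩
      · exact Or.inr ⟨hx, h.1⟩
    · rintro (⟨h1, h2⟩ | ⟨h1, h2⟩)
      · exact ⟨hB2 x h2, h1⟩
      · exact ⟨h2, fun h => h1 (h ▸ one_mem C)⟩
  have hdis : Disjoint ((Finset.univ.filter fun g => g ∈ B).erase 1) S := by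
    rw [Finset.disjoint_left]
    intro g h1 h2
    exact (Finset.mem_filter.1 h2).2.1 (hBC (Finset.mem_filter.1 (Finset.mem_erase.1 h1).2).2)
  rw [Nat.card_eq_fintype_card, Fintype.card_subtype, e, Finset.card_union_of_disjoint hdis,
    Finset.card_erase_of_mem (by simp), hBfin, hfour]
  omega

omit hc

/-- The case where `A` is trivial on the characteristic abelian subgroups. -/
theorem concl_of_trivial (hX : IsPGroup 2 X) (hna : ¬ IsMulCommutative X) (hno : NoRankThree X)
    {A : Subgroup (MulAut X)} (hA : Odd (Nat.card A)) (hG : Gen A)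
    (htriv : ∀ H : Subgroup X, H.Characteristic → IsMulCommutative H → ∀ a ∈ A, ∀ h ∈ H, a h = h) :
    Concl X := by
  haveI : Fact (Nat.Prime 2) := ⟨Nat.prime_two⟩
  have hG' : Subgroup.closure {x : X | ∃ g : X, ∃ a ∈ A, x = g⁻¹ * a g} = ⊤ := by
    rw [← hG]
    congr 1
    ext x
    exact ⟨fun ⟨g, a, ha, h⟩ => ⟨a, ha, g, h⟩, fun ⟨a, ha, g, h⟩ => ⟨g, a, ha, h⟩⟩
  obtain ⟨hsp, hfix0⟩ := Cfsg.Agent.S0119.result hX A (Nat.coprime_two_right.2 hA) hG' htriv
  obtain ⟨-, hfr, hco⟩ := id hsp
  set Z := Subgroup.center X with hZdef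
  have hsq : ∀ x : X, x * x ∈ Z := fun x => by
    rw [← pow_two]
    exact hfr.le (CfsgLib.OddOmega.pow_mem_frattini hX x)
  have hc : ∀ a b : X, ⁅a, b⁆ ∈ Z := fun a b => by
    exact hco.le (Subgroup.commutator_mem_commutator (Subgroup.mem_top a) (Subgroup.mem_top b))
  have hfix : ∀ φ ∈ A, ∀ z ∈ Z, φ z = z := fun φ hφ z hz => (hfix0 z).1 hz φ hφ
  have hZ2 : ∀ z ∈ Z, z * z = 1 := by
    intro z hz
    replace hz := hco.ge hz
    rw [commutator_eq_closure] at hz
    induction hz using Subgroup.closure_induction with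
    | mem g hg =>
      obtain ⟨a, b, rfl⟩ := hg
      rw [← comm_mul_left hc, commutatorElement_eq_one_iff_mul_comm]
      exact (Subgroup.mem_center_iff.1 (hsq a) b).symm
    | one => exact one_mul 1
    | mul a b ha hb h1 h2 =>
      have hb' : b ∈ Z := hco.le (by rw [commutator_eq_closure]; exact hb)
      calc a * b * (a * b) = a * (b * a) * b := by group
        _ = (a * a) * (b * b) := by rw [← Subgroup.mem_center_iff.1 hb' a]; group
        _ = 1 := by rw [h1, h2, one_mul]
    | inv a _ h1 => rw [← mul_inv_rev, h1, inv_one]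
  have hZle : Nat.card Z ≤ 4 :=
    noEight hX hno Z inferInstance inferInstance fun z hz => by rw [pow_two]; exact hZ2 z hz
  have hX16 : Nat.card X ≤ 16 * Nat.card Z := by
    have := CfsgLib.TwoRank.card_le_of_noEight hX (noEight hX hno) (X := ⊤) (K := Z)
      ⟨le_top, fun x _ => hsq x⟩
    rwa [Subgroup.card_top] at this
  obtain ⟨x, y, hxy⟩ : ∃ x y : X, ⁅x, y⁆ ≠ 1 := by
    by_contra h
    push Not at h
    exact hna ⟨⟨fun a b => commutatorElement_eq_one_iff_mul_comm.1 (h a b)⟩⟩
  have hxyZ : ⁅x, y⁆ ∈ Z := hc x y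
  have hord : orderOf ⁅x, y⁆ = 2 := orderOf_two_iff.2 ⟨hZ2 _ hxyZ, hxy⟩
  obtain ⟨n, hn⟩ := (hX.to_subgroup Z).exists_card_eq
  have hidxp := Z.card_mul_index
  obtain ⟨m, hm⟩ := hX.index Z
  have hn2 : n = 1 ∨ n = 2 := by
    have h1 : 2 ≤ Nat.card Z := by
      have := card_two_mul_le (B := ⊥) (A := Z) bot_le hxyZ (by simpa using hxy)
      simpa [Subgroup.card_bot] using this
    rcases n with _ | _ | _ | n
    · rw [pow_zero] at hn; omega
    · exact Or.inl rfl
    · exact Or.inr rfl
    · have : 2 ^ 3 ≤ 2 ^ (n + 3) := Nat.pow_le_pow_right (by norm_num) (by omega)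
      omega
  have hm2 : 2 ≤ m := by
    by_contra h
    have h1 : Z.index ≤ 2 := by rw [hm]; interval_cases m <;> norm_num
    have hxn : x ∉ Z := fun h =>
      hxy (commutatorElement_eq_one_iff_mul_comm.2 (Subgroup.mem_center_iff.1 h y).symm)
    let L := Subgroup.centralizer ({x} : Set X)
    have h2 := card_two_mul_le (B := Z) (A := L) (Subgroup.center_le_centralizer _) (a := x)
      (Subgroup.mem_centralizer_singleton_iff.2 rfl) hxn
    have h3 := card_two_mul_le (B := L) (A := ⊤) le_top (Subgroup.mem_top y) fun h =>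
      hxy (commutatorElement_eq_one_iff_mul_comm.2 (Subgroup.mem_centralizer_singleton_iff.1 h).symm)
    rw [Subgroup.card_top, ← hidxp] at h3
    have h4 := Nat.mul_le_mul (le_refl (Nat.card Z)) h1
    have : 0 < Nat.card Z := Nat.card_pos
    omega
  have hm4 : m ≤ 4 := by
    by_contra h
    have : 2 ^ 5 ≤ 2 ^ m := Nat.pow_le_pow_right (by norm_num) (by omega)
    rw [← hidxp, hm] at hX16
    have : 0 < Nat.card Z := Nat.card_pos
    nlinarith
  rw [hm] at hidxp
  interval_cases m
  · -- index four
    rcases hn2 with rfl | rfl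
    · exact Or.inl (eight_quaternion hc hA hG hsq hna (by rw [← hidxp, hn]; norm_num))
    · exfalso
      have h4 := comm_mem_of_index_four hc (by rw [← hidxp]; ring) hxy
      have hle : commutator X ≤ Subgroup.zpowers ⁅x, y⁆ := by
        rw [commutator_def, Subgroup.commutator_le]
        exact fun a _ b _ => h4 a b
      rw [hco] at hle
      have := Subgroup.card_le_of_le hle
      rw [Nat.card_zpowers, hord, hn] at this
      omega
  · -- index eight
    exfalso
    obtain ⟨M', hM'⟩ := Sylow.exists_subgroup_card_pow_prime (G := Z) 2 (n := n - 1)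
      (by rw [hn]; exact pow_dvd_pow 2 (by omega))
    have hMc : Nat.card (M'.map Z.subtype) = 2 ^ (n - 1) := by
      rw [Subgroup.card_map_of_injective (Subgroup.subtype_injective Z), hM']
    obtain ⟨a, b, hab⟩ : ∃ a b : X, ⁅a, b⁆ ∉ M'.map Z.subtype := by
      by_contra h
      push Not at h
      have hle : commutator X ≤ M'.map Z.subtype := by
        rw [commutator_def, Subgroup.commutator_le]
        exact fun a _ b _ => h a b
      rw [hco] at hle
      have := Subgroup.card_le_of_le hle
      rw [hMc, hn] at this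
      rcases hn2 with rfl | rfl <;> norm_num at this
    exact index_eight_false hc hA hG hsq hfix (by rw [← hidxp]; ring) (Subgroup.map_subtype_le M')
      (by rw [hn, hMc]; rcases hn2 with rfl | rfl <;> norm_num) hab
  · -- index sixteen
    rcases hn2 with rfl | rfl
    · exact Or.inr (Or.inr ⟨⟨hsp, hn⟩, by rw [← hidxp, hn]; norm_num,
        count_eleven hc hno hsq (by rw [← hidxp, hn]; norm_num) hn⟩)
    · have hall : ∀ t : X, t * t = 1 → t ∈ Z := fun t ht => involution_central hc hno hsq hZ2 hn ht
      exact Or.inr (Or.inl ⟨hsp, by rw [← hidxp, hn]; norm_num, count_three hn hZ2 hall,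
        fun t ht => hall t (orderOf_two_iff.1 ht).1⟩)

end CfsgLib.NoSCN
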