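import Cfsg.Agent.Lib.NoSCN.Four
import Cfsg.Agent.Lib.NoSCN.Trivial

/-!
A moved four-group which contains the centre and all the squares.
-/

set_option autoImplicit false
set_option linter.unusedSectionVars false
set_option linter.style.haveILetI false

namespace CfsgLib.NoSCN

open scoped commutatorElement

variable {X : Type*} [Group X]

theorem comm_mem_of_squares {N : Subgroup X} (hsq : ∀ x : X, x * x ∈ N) (a b : X) : ⁅a, b⁆ ∈ N := by
  have e : ⁅a, b⁆ = a * a * ((a⁻¹ * b) * (a⁻¹ * b)) * (b⁻¹ * b⁻¹) := by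
    simp only [commutatorElement_def]; group
  rw [e]
  exact mul_mem (mul_mem (hsq _) (hsq _)) (hsq _)

theorem eq_or_eq_of_mem_zpowers {a g : X} (ha : a * a = 1) (hg : g ∈ Subgroup.zpowers a) :
    g = 1 ∨ g = a := by
  obtain ⟨i, rfl⟩ := Subgroup.mem_zpowers_iff.1 hg
  rcases Int.even_or_odd i with ⟨j, rfl⟩ | ⟨j, rfl⟩
  · left; rw [zpow_add, ← (Commute.refl a).mul_zpow, ha, one_zpow]
  · right; rw [zpow_add_one, two_mul, zpow_add, ← (Commute.refl a).mul_zpow, ha, one_zpow, one_mul]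

variable [Finite X] {A : Subgroup (MulAut X)} {E : Subgroup X} {φ : MulAut X} {e : X}

/-- Not all commutators lie in a subgroup of order two. -/
theorem not_all_comm (hna : ¬ IsMulCommutative X) (hA : Odd (Nat.card A)) (F : Four A E φ e) {a : X}
    (ha : a ∈ E) : ∃ x y : X, ⁅x, y⁆ ∉ Subgroup.zpowers a := by
  by_contra h
  push Not at h
  obtain ⟨x, y, hxy⟩ : ∃ x y : X, ⁅x, y⁆ ≠ 1 := by
    by_contra h
    push Not at h
    exact hna ⟨⟨fun a b => commutatorElement_eq_one_iff_mul_comm.1 (h a b)⟩⟩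
  have h1 := (eq_or_eq_of_mem_zpowers (F.sq a ha) (h x y)).resolve_left hxy
  have h2 : φ ⁅x, y⁆ = a := by
    have h3 := h (φ x) (φ y)
    rw [← map_commutatorElement] at h3
    rcases eq_or_eq_of_mem_zpowers (F.sq a ha) h3 with h4 | h4
    · exact absurd (φ.injective (h4.trans (map_one φ).symm)) hxy
    · exact h4
  rw [h1] at h2
  exact hxy (h1.trans (F.fixed_eq_one hA ha h2))

/-- The index eight is impossible over a moved four-group. -/
theorem thirty_two_false (hA : Odd (Nat.card A)) (hG : Gen A) (hna : ¬ IsMulCommutative X)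
    (F : Four A E φ e) (hZ : Subgroup.center X = E) (hsq : ∀ x : X, x * x ∈ E)
    (hX : Nat.card X = 32) : False := by
  haveI : Fact (Nat.Prime 2) := ⟨Nat.prime_two⟩
  have hcE : ∀ a b : X, ⁅a, b⁆ ∈ E := comm_mem_of_squares hsq
  have hc : ∀ a b : X, ⁅a, b⁆ ∈ Subgroup.center X := fun a b => hZ ▸ hcE a b
  haveI : E.Normal := ⟨fun n hn g => by rwa [F.comm hn g, mul_inv_cancel_right]⟩
  obtain ⟨x, y, hxy⟩ := not_all_comm hna hA F F.he
  obtain ⟨c, hcZ, hcR, huniq⟩ := exists_coset (M := Subgroup.zpowers e) hc (fun g => hZ ▸ hsq g)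
    (by rw [hZ, F.card, hX]) ((Subgroup.zpowers_le).2 (F.le F.he))
    (by rw [hZ, F.card, Nat.card_zpowers, orderOf_two_iff.2 ⟨F.sq e F.he, F.e_ne⟩]) hxy
  rw [hZ] at hcZ huniq
  set q := QuotientGroup.mk' E with hq
  have hq1 : ∀ g : X, q g = 1 ↔ g ∈ E := fun g => QuotientGroup.eq_one_iff g
  have hqeq : ∀ a b : X, q a = q b ↔ a⁻¹ * b ∈ E := fun a b => QuotientGroup.eq
  have hqc : ∀ u v : X ⧸ E, u * v = v * u := by
    intro u v
    obtain ⟨a, rfl⟩ := QuotientGroup.mk'_surjective E u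
    obtain ⟨b, rfl⟩ := QuotientGroup.mk'_surjective E v
    rw [← commutatorElement_eq_one_iff_mul_comm, ← map_commutatorElement]
    exact (hq1 _).2 (hcE a b)
  -- automorphisms agreeing on `e` agree on the coset
  have hkey : ∀ ψ₁ ∈ A, ∀ ψ₂ ∈ A, ψ₁ e = ψ₂ e → q (ψ₁ c) = q (ψ₂ c) := by
    intro ψ₁ h₁ ψ₂ h₂ he
    have hfe : ψ₂⁻¹ (ψ₁ e) = e := by rw [he, MulAut.inv_apply_self]
    set χ := ψ₂⁻¹ * ψ₁ with hχ
    have hχR : ∀ a : X, ⁅a, χ c⁆ ∈ Subgroup.zpowers e := by
      intro a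
      rw [show ⁅a, χ c⁆ = χ ⁅χ⁻¹ a, c⁆ by simp [map_commutatorElement]]
      rcases eq_or_eq_of_mem_zpowers (F.sq e F.he) (hcR (χ⁻¹ a)) with h | h
      · rw [h, map_one]; exact one_mem _
      · rw [h, hχ, MulAut.mul_apply, hfe]; exact Subgroup.mem_zpowers e
    rcases huniq _ hχR with h | h
    · refine absurd ?_ hcZ
      have h2 := F.invariant χ⁻¹ h
      rwa [MulAut.inv_apply_self] at h2
    · have h2 := F.invariant ψ₂ h
      rw [map_mul, map_inv, hχ, MulAut.mul_apply, MulAut.apply_inv_self] at h2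
      exact ((hqeq _ _).2 h2).symm
  have h1 : φ * φ ∈ A := mul_mem F.mem F.mem
  have key : ∀ ψ ∈ A,
      (q (ψ c) = q c ∧ q (ψ (φ c)) = q (φ c) ∧ q (ψ (φ (φ c))) = q (φ (φ c))) ∨
      (q (ψ c) = q (φ c) ∧ q (ψ (φ c)) = q (φ (φ c)) ∧ q (ψ (φ (φ c))) = q c) ∨
      (q (ψ c) = q (φ (φ c)) ∧ q (ψ (φ c)) = q c ∧ q (ψ (φ (φ c))) = q (φ c)) := by
    intro ψ hψ
    obtain ⟨χ, hχ, hfix, h⟩ := F.agree hA hψ
    have f1 := hfix e F.he
    have f2 := hfix _ (F.invariant φ F.he)
    have f3 := hfix _ (F.invariant φ (F.invariant φ F.he))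
    have p1 := fun (α : MulAut X) (hα : α ∈ A) (h : ψ e = α e) => hkey ψ hψ α hα h
    have p2 := fun (α : MulAut X) (hα : α ∈ A) (h : ψ (φ e) = α e) =>
      hkey (ψ * φ) (mul_mem hψ F.mem) α hα h
    have p3 := fun (α : MulAut X) (hα : α ∈ A) (h : ψ (φ (φ e)) = α e) =>
      hkey (ψ * (φ * φ)) (mul_mem hψ h1) α hα h
    have i1 := one_mem A
    rcases h with rfl | rfl | rfl
    · exact Or.inl ⟨p1 1 i1 f1, p2 φ F.mem f2, p3 (φ * φ) h1 f3⟩
    · refine Or.inr (Or.inl ⟨p1 φ F.mem ?_, p2 (φ * φ) h1 ?_, p3 1 i1 ?_⟩)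
      · rw [MulAut.mul_apply, f1]
      · rw [MulAut.mul_apply, f2]; rfl
      · rw [MulAut.mul_apply, f3, F.phi_three hA]; rfl
    · refine Or.inr (Or.inr ⟨p1 (φ * φ) h1 ?_, p2 1 i1 ?_, p3 φ F.mem ?_⟩)
      · rw [MulAut.mul_apply (e₂ := χ), f1]
      · rw [MulAut.mul_apply (e₂ := χ), f2, MulAut.mul_apply, F.phi_three hA]; rfl
      · rw [MulAut.mul_apply (e₂ := χ), f3, MulAut.mul_apply, F.phi_three hA]
  have hsE : c * φ c * φ (φ c) ∈ E := by
    refine no_fixed_coset hG hA E hsq _ fun ψ hψ => (hqeq _ _).1 ?_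
    rw [map_mul ψ, map_mul ψ, map_mul q, map_mul q, map_mul q, map_mul q]
    rcases key ψ hψ with ⟨a1, a2, a3⟩ | ⟨a1, a2, a3⟩ | ⟨a1, a2, a3⟩ <;> rw [a1, a2, a3]
    · rw [mul_assoc, hqc (q c), mul_assoc]
    · rw [mul_assoc (q (φ (φ c))), hqc (q (φ (φ c)))]
  have hφcZ : φ c ∉ E := fun h => hcZ (by
    have := F.invariant φ⁻¹ h
    rwa [MulAut.inv_apply_self] at this)
  -- the subgroup generated by the three cosets
  haveI hP1 : (pairSub E c).Normal := pairSub_normal hcE c
  set P₁ := pairSub E c with hP1def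
  set N := pairSub P₁ (φ c) with hNdef
  have hEN : E ≤ N := (le_pairSub E c).trans (le_pairSub P₁ _)
  have hcN : c ∈ N := le_pairSub P₁ _ (self_mem_pairSub E c)
  have hc2N : φ c ∈ N := self_mem_pairSub P₁ _
  have hc3N : φ (φ c) ∈ N := by
    have := mul_mem (inv_mem (mul_mem hcN hc2N)) (hEN hsE)
    simpa [mul_assoc] using this
  have hof : ∀ g d : X, q g = q d → d ∈ N → g ∈ N := fun g d h hd => by
    have := mul_mem hd (hEN ((hqeq d g).1 h.symm))
    simpa using this
  have hψc : ∀ ψ ∈ A, ψ c ∈ N ∧ ψ (φ c) ∈ N := by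
    intro ψ hψ
    rcases key ψ hψ with ⟨a1, a2, -⟩ | ⟨a1, a2, -⟩ | ⟨a1, a2, -⟩
    · exact ⟨hof _ _ a1 hcN, hof _ _ a2 hc2N⟩
    · exact ⟨hof _ _ a1 hc2N, hof _ _ a2 hc3N⟩
    · exact ⟨hof _ _ a1 hc3N, hof _ _ a2 hcN⟩
  have hinvP : ∀ ψ ∈ A, ∀ g ∈ P₁, ψ g ∈ N := by
    intro ψ hψ g hg
    rcases mem_pairSub (hsq c) hg with h | h
    · exact hEN (F.invariant ψ h)
    · have := mul_mem (hψc ψ hψ).1 (hEN (F.invariant ψ h))
      simpa [map_mul] using this
  have hinv : ∀ ψ ∈ A, ∀ g ∈ N, ψ g ∈ N := by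
    intro ψ hψ g hg
    rcases mem_pairSub (le_pairSub E c (hsq (φ c))) hg with h | h
    · exact hinvP ψ hψ g h
    · have := mul_mem (hψc ψ hψ).2 (hinvP ψ hψ _ h)
      simpa [map_mul] using this
  have hne : φ c ∉ P₁ := by
    intro h
    rcases mem_pairSub (hsq c) h with h | h
    · exact hφcZ h
    · refine hcZ ?_
      have h3 : q c = q (φ (φ c)) := ((hqeq _ _).2 h).trans ((hqeq _ _).2 (by
        have := F.invariant φ h
        rwa [map_mul, map_inv] at this))
      have h2 := (hq1 _).2 hsE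
      rw [map_mul, map_mul, ← h3, ← (hqeq _ _).2 h, mul_assoc, ← map_mul q c c, (hq1 _).2 (hsq c),
        mul_one] at h2
      exact (hq1 c).1 h2
  -- `c` commutes with `φ c`
  have hcomm : Commute c (φ c) := by
    rw [commute_iff_eq, ← commutatorElement_eq_one_iff_mul_comm]
    have a1 : ⁅φ c, c⁆ ∈ Subgroup.zpowers e := hcR _
    have a2 : ⁅c, φ c⁆ = 1 ∨ ⁅c, φ c⁆ = φ e := by
      rw [show ⁅c, φ c⁆ = φ ⁅φ⁻¹ c, c⁆ by simp [map_commutatorElement]]
      rcases eq_or_eq_of_mem_zpowers (F.sq e F.he) (hcR (φ⁻¹ c)) with h | h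
      · exact Or.inl (by rw [h, map_one])
      · exact Or.inr (by rw [h])
    rcases a2 with h | h
    · exact h
    · exfalso
      have h' := congrArg (·⁻¹) h
      simp only [commutatorElement_inv] at h'
      rw [h', inv_eq_of_mul_eq_one_right (F.sq _ (F.invariant φ F.he))] at a1
      rcases eq_or_eq_of_mem_zpowers (F.sq e F.he) a1 with h2 | h2
      · exact F.ephi_ne h2
      · exact F.ne h2
  have hNC : N ≤ Subgroup.centralizer ({c} : Set X) := by
    have hP : P₁ ≤ Subgroup.centralizer ({c} : Set X) := fun g hg => by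
      rw [Subgroup.mem_centralizer_singleton_iff]
      rcases mem_pairSub (hsq c) hg with h | h
      · exact (F.comm h c).symm
      · calc g * c = c * ((c⁻¹ * g) * c) := by group
          _ = c * (c * (c⁻¹ * g)) := by rw [F.comm h c]
          _ = c * g := by group
    intro g hg
    rcases mem_pairSub (le_pairSub E c (hsq (φ c))) hg with h | h
    · exact hP h
    · have h2 := mul_mem (Subgroup.mem_centralizer_singleton_iff.2 hcomm.eq.symm) (hP h)
      simpa using h2
  have hN1 : N.index ≠ 1 := by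
    intro h
    rw [Subgroup.index_eq_one] at h
    refine hcZ (hZ ▸ Subgroup.mem_center_iff.2 fun g => ?_)
    exact Subgroup.mem_centralizer_singleton_iff.1 (hNC (h ▸ Subgroup.mem_top g))
  have b1 := card_two_mul_le (le_pairSub E c) (self_mem_pairSub E c) hcZ
  have b2 := card_two_mul_le (le_pairSub P₁ (φ c)) hc2N hne
  have b3 := N.card_mul_index
  rw [hX] at b3
  rw [F.card] at b1
  have hN0 : N.index ≠ 0 := Subgroup.FiniteIndex.index_ne_zero
  have b4 : Nat.card N * 2 ≤ Nat.card N * N.index := Nat.mul_le_mul_left _ (by omega)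
  have b5 : N.index = 2 := by
    have : Nat.card N = 16 := by
      rw [b3] at b4
      change 2 * 4 ≤ Nat.card P₁ at b1
      change 2 * Nat.card P₁ ≤ Nat.card N at b2
      omega
    rw [this] at b3
    omega
  exact no_index_two hG N b5 hinv

/-- The conclusion, when the centre is the moved four-group and contains all squares. -/
theorem concl_of_four (hX : IsPGroup 2 X) (hno : NoRankThree X) (hA : Odd (Nat.card A)) (hG : Gen A)
    (hna : ¬ IsMulCommutative X) (F : Four A E φ e) (hZ : Subgroup.center X = E)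
    (hsq : ∀ x : X, x * x ∈ E) : Concl X := by
  haveI : Fact (Nat.Prime 2) := ⟨Nat.prime_two⟩
  have hcE : ∀ a b : X, ⁅a, b⁆ ∈ E := comm_mem_of_squares hsq
  have hc : ∀ a b : X, ⁅a, b⁆ ∈ Subgroup.center X := fun a b => hZ ▸ hcE a b
  obtain ⟨x, y, hxy⟩ := not_all_comm hna hA F (one_mem E)
  have hxy1 : ⁅x, y⁆ ≠ 1 := fun h => hxy (by rw [h]; exact one_mem _)
  have hX16 : Nat.card X ≤ 16 * 4 := by
    have := CfsgLib.TwoRank.card_le_of_noEight hX (noEight hX hno) (X := ⊤) (K := E)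
      ⟨le_top, fun x _ => hsq x⟩
    rwa [Subgroup.card_top, F.card] at this
  have h16 : 16 ≤ Nat.card X := by
    have hxn : x ∉ Subgroup.center X := fun h =>
      hxy1 (commutatorElement_eq_one_iff_mul_comm.2 (Subgroup.mem_center_iff.1 h y).symm)
    have h2 := card_two_mul_le (B := Subgroup.center X) (A := Subgroup.centralizer ({x} : Set X))
      (Subgroup.center_le_centralizer _) (a := x) (Subgroup.mem_centralizer_singleton_iff.2 rfl) hxn
    have h3 := card_two_mul_le (B := Subgroup.centralizer ({x} : Set X)) (A := ⊤) le_top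
      (Subgroup.mem_top y) fun h =>
        hxy1 (commutatorElement_eq_one_iff_mul_comm.2 (Subgroup.mem_centralizer_singleton_iff.1 h).symm)
    rw [Subgroup.card_top] at h3
    rw [hZ, F.card] at h2
    omega
  obtain ⟨m, hm⟩ := hX.exists_card_eq
  have hm1 : 4 ≤ m := by
    by_contra h
    interval_cases m <;> norm_num at hm <;> omega
  have hm2 : m ≤ 6 := by
    by_contra h
    have := Nat.pow_le_pow_right (show 1 ≤ 2 by norm_num) (show 7 ≤ m by omega)
    omega
  have hco : commutator X ≤ E := by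
    rw [commutator_def, Subgroup.commutator_le]
    exact fun a _ b _ => hcE a b
  interval_cases m
  · exfalso
    have hall := comm_mem_of_index_four hc (by rw [hZ, F.card, hm]; norm_num) hxy1
    obtain ⟨u, v, huv⟩ := not_all_comm hna hA F (hcE x y)
    exact huv (hall u v)
  · exact (thirty_two_false hA hG hna F hZ hsq (by rw [hm]; norm_num)).elim
  · have hall : ∀ t : X, t * t = 1 → t ∈ E := fun t ht => hZ ▸
      involution_central hc hno (fun g => hZ ▸ hsq g) (fun z hz => F.sq z (hZ ▸ hz))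
        (by rw [hZ, F.card]) ht
    have hcoE : commutator X = E := by
      refine F.eq_of_invariant hA hco (fun g hg => ?_)
        (Subgroup.commutator_mem_commutator (Subgroup.mem_top x) (Subgroup.mem_top y)) hxy1
      exact (Subgroup.characteristic_iff_map_le.1 inferInstance φ) ⟨g, hg, rfl⟩
    refine Or.inr (Or.inl ⟨⟨hX, ?_, by rw [hcoE, hZ]⟩, by rw [hm]; norm_num,
      count_three F.card F.sq hall, fun t ht => hZ ▸ hall t (orderOf_two_iff.1 ht).1⟩)
    rw [hZ]
    haveI : E.Normal := hZ ▸ inferInstance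
    refine le_antisymm ?_ ?_
    · exact CfsgLib.Critical.frattini_le_of_elementary (p := 2) E hco
        (fun a => by rw [pow_two]; exact hsq a)
    · rw [← hcoE, commutator_def, Subgroup.commutator_le]
      exact fun a _ b _ => comm_mem_of_squares
        (fun g => by rw [← pow_two]; exact CfsgLib.OddOmega.pow_mem_frattini hX g) a b

end CfsgLib.NoSCN
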