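import Cfsg.Agent.Lib.NoSCN.Basic

/-!
Either `A` is trivial on every characteristic abelian subgroup, or some element of `A` permutes
cyclically the three involutions of the centre.
-/

set_option autoImplicit false
set_option linter.unusedSectionVars false
set_option linter.style.haveILetI false

namespace CfsgLib.NoSCN

variable {X : Type*} [Group X]

/-- The four-group of central involutions, permuted by `φ`. -/
structure Four (A : Subgroup (MulAut X)) (E : Subgroup X) (φ : MulAut X) (e : X) : Prop where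
  sq : ∀ a ∈ E, a * a = 1
  card : Nat.card E = 4
  le : E ≤ Subgroup.center X
  full : ∀ z ∈ Subgroup.center X, z * z = 1 → z ∈ E
  mem : φ ∈ A
  he : e ∈ E
  ne : φ e ≠ e

variable [Finite X] {A : Subgroup (MulAut X)}

theorem odd_order (hA : Odd (Nat.card A)) {φ : MulAut X} (hφ : φ ∈ A) : Odd (orderOf φ) :=
  hA.of_dvd_nat (Subgroup.orderOf_dvd_natCard A hφ)

/-- An automorphism of odd order whose square fixes a point fixes it. -/
theorem fix_of_sq_fix {φ : MulAut X} (hodd : Odd (orderOf φ)) {x : X} (h : φ (φ x) = x) : φ x = x := by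
  obtain ⟨m, hm⟩ := hodd
  have h2 : ∀ k : ℕ, (φ ^ (2 * k)) x = x := by
    intro k
    induction k with
    | zero => simp
    | succ k ih =>
      rw [show 2 * (k + 1) = 2 * k + 1 + 1 by ring, pow_succ, pow_succ, MulAut.mul_apply,
        MulAut.mul_apply, h, ih]
  have h3 : (φ ^ (2 * m + 1)) x = x := by rw [← hm, pow_orderOf_eq_one, MulAut.one_apply]
  rw [pow_succ', MulAut.mul_apply, h2] at h3
  exact h3

/-- An automorphism of odd order fixing the involutions of an abelian subgroup fixes all of it. -/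
theorem fix_of_fix_omega (hX : IsPGroup 2 X) {φ : MulAut X} (hodd : Odd (orderOf φ)) {H : Subgroup X}
    (hHc : ∀ a ∈ H, ∀ b ∈ H, a * b = b * a) (hinv : ∀ h ∈ H, φ h ∈ H)
    (h1 : ∀ h ∈ H, h * h = 1 → φ h = h) : ∀ h ∈ H, φ h = h := by
  haveI : Fact (Nat.Prime 2) := ⟨Nat.prime_two⟩
  suffices key : ∀ j : ℕ, ∀ h ∈ H, h ^ 2 ^ j = 1 → φ h = h by
    intro h hh
    obtain ⟨j, hj⟩ := hX h
    exact key j h hh hj
  intro j
  induction j with
  | zero =>
    intro h _ hj
    rw [pow_zero, pow_one] at hj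
    rw [hj, map_one]
  | succ j ih =>
    intro h hh hj
    have h2 : φ (h * h) = h * h := ih _ (mul_mem hh hh) (by
      rw [← pow_two, ← pow_mul]; rwa [pow_succ'] at hj)
    refine Critical.Detect.eq_self_of_fix hX (Nat.coprime_two_right.2 hodd) (h1 _ (mul_mem (inv_mem hh) (hinv h hh)) ?_)
    calc h⁻¹ * φ h * (h⁻¹ * φ h) = h⁻¹ * (φ h * h⁻¹) * φ h := by group
      _ = h⁻¹ * (h⁻¹ * φ h) * φ h := by rw [hHc _ (hinv h hh) _ (inv_mem hh)]
      _ = (h * h)⁻¹ * (φ h * φ h) := by group
      _ = 1 := by rw [← map_mul, h2, inv_mul_cancel]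

namespace Four

variable {E : Subgroup X} {φ : MulAut X} {e : X}

theorem invariant (F : Four A E φ e) (ψ : MulAut X) {a : X} (ha : a ∈ E) : ψ a ∈ E := by
  refine F.full _ (Subgroup.mem_center_iff.2 fun g => ?_) (by rw [← map_mul, F.sq a ha, map_one])
  have := congrArg ψ (Subgroup.mem_center_iff.1 (F.le ha) (ψ⁻¹ g))
  simpa using this

theorem comm (F : Four A E φ e) {a : X} (ha : a ∈ E) (g : X) : g * a = a * g :=
  Subgroup.mem_center_iff.1 (F.le ha) g

theorem e_ne (F : Four A E φ e) : e ≠ 1 := fun h => F.ne (by rw [h, map_one])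

theorem ephi_ne (F : Four A E φ e) : φ e ≠ 1 := fun h => F.e_ne (by simpa using congrArg φ.symm h)

theorem cases (F : Four A E φ e) {a : X} (ha : a ∈ E) :
    a = 1 ∨ a = e ∨ a = φ e ∨ a = e * φ e := by
  classical
  haveI := Fintype.ofFinite E
  let f : Fin 4 → E := ![1, ⟨e, F.he⟩, ⟨φ e, F.invariant φ F.he⟩,
    ⟨e * φ e, mul_mem F.he (F.invariant φ F.he)⟩]
  have hinj : Function.Injective f := by
    have h1 : e * φ e ≠ 1 := fun h => F.ne (by
      rw [← inv_eq_of_mul_eq_one_right h, inv_eq_of_mul_eq_one_right (F.sq e F.he)])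
    have h2 : e * φ e ≠ e := fun h => F.ephi_ne (mul_eq_left.1 h)
    have h3 : e * φ e ≠ φ e := fun h => F.e_ne (mul_eq_right.1 h)
    intro i j h
    have h' := congrArg Subtype.val h
    fin_cases i <;> fin_cases j <;>
      first
        | rfl
        | exact absurd h' F.e_ne
        | exact absurd h'.symm F.e_ne
        | exact absurd h' F.ephi_ne
        | exact absurd h'.symm F.ephi_ne
        | exact absurd h' F.ne
        | exact absurd h'.symm F.ne
        | exact absurd h' h1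
        | exact absurd h'.symm h1
        | exact absurd h' h2
        | exact absurd h'.symm h2
        | exact absurd h' h3
        | exact absurd h'.symm h3
  have hbij : Function.Bijective f := (Fintype.bijective_iff_injective_and_card f).2
    ⟨hinj, by rw [Fintype.card_fin, ← Nat.card_eq_fintype_card, F.card]⟩
  obtain ⟨i, hi⟩ := hbij.2 ⟨a, ha⟩
  have h' := congrArg Subtype.val hi
  fin_cases i <;> simp [f] at h'
  · exact Or.inl h'.symm
  · exact Or.inr (Or.inl h'.symm)
  · exact Or.inr (Or.inr (Or.inl h'.symm))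
  · exact Or.inr (Or.inr (Or.inr h'.symm))

theorem phi_two (hA : Odd (Nat.card A)) (F : Four A E φ e) : φ (φ e) = e * φ e := by
  have h2 : φ (φ e) ≠ e := fun h => F.ne (fix_of_sq_fix (odd_order hA F.mem) h)
  rcases F.cases (F.invariant φ (F.invariant φ F.he)) with h | h | h | h
  · exact absurd (φ.injective (h.trans (map_one φ).symm)) F.ephi_ne
  · exact absurd h h2
  · exact absurd (φ.injective h) F.ne
  · exact h

theorem phi_three (hA : Odd (Nat.card A)) (F : Four A E φ e) : φ (φ (φ e)) = e := by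
  rw [F.phi_two hA, map_mul, F.phi_two hA]
  calc φ e * (e * φ e) = (φ e * φ e) * e := by
        rw [mul_assoc, F.comm F.he (φ e)]
    _ = e := by rw [F.sq _ (F.invariant φ F.he), one_mul]

theorem fixed_eq_one (hA : Odd (Nat.card A)) (F : Four A E φ e) {a : X} (ha : a ∈ E) (h : φ a = a) :
    a = 1 := by
  rcases F.cases ha with rfl | rfl | rfl | rfl
  · rfl
  · exact absurd h F.ne
  · exact absurd (φ.injective h) F.ne
  · exfalso
    rw [map_mul, F.phi_two hA] at h
    have h2 := congrArg (φ e * ·) h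
    simp only [← mul_assoc, F.sq _ (F.invariant φ F.he), one_mul] at h2
    rw [F.comm F.he (φ e), mul_assoc, F.sq _ (F.invariant φ F.he), mul_one] at h2
    exact F.ephi_ne (mul_eq_left.1 h2)

theorem eq_of_invariant (hA : Odd (Nat.card A)) (F : Four A E φ e) {M : Subgroup X} (hME : M ≤ E)
    (hinv : ∀ a ∈ M, φ a ∈ M) {a : X} (ha : a ∈ M) (ha1 : a ≠ 1) : M = E := by
  have key : e ∈ M := by
    rcases F.cases (hME ha) with rfl | rfl | rfl | rfl
    · exact absurd rfl ha1
    · exact ha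
    · have := hinv _ (hinv _ ha)
      rwa [F.phi_three hA] at this
    · have := hinv _ ha
      rw [map_mul, F.phi_two hA, F.comm F.he (φ e) |>.symm |> fun h => show φ e * (e * φ e) = e by
        rw [← mul_assoc, ← h, mul_assoc, F.sq _ (F.invariant φ F.he), mul_one]] at this
      exact this
  refine le_antisymm hME fun b hb => ?_
  rcases F.cases hb with rfl | rfl | rfl | rfl
  · exact one_mem M
  · exact key
  · exact hinv _ key
  · exact mul_mem key (hinv _ key)

/-- Each element of `A` acts on the involutions as a power of `φ`. -/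
theorem agree (hA : Odd (Nat.card A)) (F : Four A E φ e) {ψ : MulAut X} (hψ : ψ ∈ A) :
    ∃ χ ∈ A, (∀ a ∈ E, χ a = a) ∧ (ψ = χ ∨ ψ = φ * χ ∨ ψ = φ * φ * χ) := by
  have fixE : ∀ χ ∈ A, χ e = e → ∀ a ∈ E, χ a = a := by
    intro χ hχ he
    have h1 : χ (φ e) = φ e := by
      rcases F.cases (F.invariant χ (F.invariant φ F.he)) with h | h | h | h
      · exact absurd (χ.injective (h.trans (map_one χ).symm)) F.ephi_ne
      · exact absurd (χ.injective (h.trans he.symm)) F.ne
      · exact h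
      · refine fix_of_sq_fix (odd_order hA hχ) ?_
        rw [h, map_mul, he, h, ← mul_assoc, F.sq e F.he, one_mul]
    intro a ha
    rcases F.cases ha with rfl | rfl | rfl | rfl
    · exact map_one χ
    · exact he
    · exact h1
    · rw [map_mul, he, h1]
  rcases F.cases (F.invariant ψ F.he) with h | h | h | h
  · exact absurd (ψ.injective (h.trans (map_one ψ).symm)) F.e_ne
  · exact ⟨ψ, hψ, fixE ψ hψ h, Or.inl rfl⟩
  · refine ⟨φ⁻¹ * ψ, mul_mem (inv_mem F.mem) hψ, fixE _ (mul_mem (inv_mem F.mem) hψ) ?_, Or.inr (Or.inl ?_)⟩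
    · rw [MulAut.mul_apply, h, MulAut.inv_apply_self]
    · rw [mul_inv_cancel_left]
  · refine ⟨(φ * φ)⁻¹ * ψ, mul_mem (inv_mem (mul_mem F.mem F.mem)) hψ,
      fixE _ (mul_mem (inv_mem (mul_mem F.mem F.mem)) hψ) ?_, Or.inr (Or.inr ?_)⟩
    · rw [MulAut.mul_apply, h, ← F.phi_two hA, ← MulAut.mul_apply (e₁ := φ) (e₂ := φ), MulAut.inv_apply_self]
    · rw [mul_inv_cancel_left]

end Four

/-- The dichotomy. -/
theorem exists_four_or_trivial (hX : IsPGroup 2 X) (hno : NoRankThree X) (hA : Odd (Nat.card A)) :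
    (∃ (E : Subgroup X) (φ : MulAut X) (e : X), Four A E φ e) ∨
      ∀ H : Subgroup X, H.Characteristic → IsMulCommutative H → ∀ a ∈ A, ∀ h ∈ H, a h = h := by
  haveI : Fact (Nat.Prime 2) := ⟨Nat.prime_two⟩
  by_cases hE : ∃ (E : Subgroup X) (φ : MulAut X) (e : X), Four A E φ e
  · exact Or.inl hE
  refine Or.inr fun H hHch hHab φ hφ => ?_
  haveI := hHch
  have hc : ∀ a ∈ H, ∀ b ∈ H, a * b = b * a := fun a ha b hb =>
    congrArg Subtype.val (hHab.is_comm.comm ⟨a, ha⟩ ⟨b, hb⟩)
  have hinv : ∀ (ψ : MulAut X), ∀ h ∈ H, ψ h ∈ H := fun ψ h hh =>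
    (Subgroup.characteristic_iff_map_le.1 hHch ψ) ⟨h, hh, rfl⟩
  refine fix_of_fix_omega hX (odd_order hA hφ) hc (hinv φ) fun o ho ho2 => ?_
  by_contra hne
  let Ω : Subgroup X :=
    { carrier := {h | h ∈ H ∧ h * h = 1}
      one_mem' := ⟨one_mem H, one_mul 1⟩
      mul_mem' := by
        rintro a b ⟨ha, ha2⟩ ⟨hb, hb2⟩
        refine ⟨mul_mem ha hb, ?_⟩
        calc a * b * (a * b) = a * (b * a) * b := by group
          _ = (a * a) * (b * b) := by rw [hc b hb a ha]; group
          _ = 1 := by rw [ha2, hb2, one_mul]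
      inv_mem' := by
        rintro a ⟨ha, ha2⟩
        exact ⟨inv_mem ha, by rw [← mul_inv_rev, ha2, inv_one]⟩ }
  have hΩinv : ∀ (ψ : MulAut X), ∀ h ∈ Ω, ψ h ∈ Ω := fun ψ h hh =>
    ⟨hinv ψ h hh.1, by rw [← map_mul, hh.2, map_one]⟩
  haveI : Ω.Normal := ⟨fun x hx g => hΩinv (MulAut.conj g) x hx⟩
  have hΩc : IsMulCommutative Ω := ⟨⟨fun a b => Subtype.ext (hc _ a.2.1 _ b.2.1)⟩⟩
  have hcard4 : Nat.card Ω = 4 := by
    have hle : Nat.card Ω ≤ 4 :=
      noEight hX hno Ω inferInstance hΩc fun a ha => by rw [pow_two]; exact ha.2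
    have ho1 : o ≠ 1 := fun h => hne (by rw [h, map_one])
    have hge : 2 * Nat.card (Subgroup.zpowers o) ≤ Nat.card Ω := by
      refine card_two_mul_le ((Subgroup.zpowers_le).2 ⟨ho, ho2⟩) (hΩinv φ o ⟨ho, ho2⟩) ?_
      rintro ⟨i, hi⟩
      simp only at hi
      rcases Int.even_or_odd i with ⟨j, rfl⟩ | ⟨j, rfl⟩
      · rw [zpow_add, ← (Commute.refl o).mul_zpow, ho2, one_zpow] at hi
        exact ho1 (φ.injective (hi.symm.trans (map_one φ).symm))
      · rw [zpow_add_one, two_mul, zpow_add, ← (Commute.refl o).mul_zpow, ho2, one_zpow, one_mul] at hi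
        exact hne hi.symm
    rw [Nat.card_zpowers, orderOf_eq_prime (by rw [pow_two]; exact ho2) ho1] at hge
    omega
  -- a central involution in `Ω`
  obtain ⟨⟨z, hzΩ⟩, hz1⟩ : ∃ z : (Ω ⊓ Subgroup.center X : Subgroup X), z ≠ 1 := by
    rw [← Subgroup.ne_bot_iff_exists_ne_one]
    haveI := hX.isNilpotent
    refine Critical.inf_center_ne_bot Ω fun h => hne ?_
    have : o ∈ Ω := ⟨ho, ho2⟩
    rw [h, Subgroup.mem_bot] at this
    rw [this, map_one]
  have hz1' : z ≠ 1 := fun h => hz1 (Subtype.ext h)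
  have hcen : ∀ (ψ : MulAut X) (g : X), g ∈ Subgroup.center X → ψ g ∈ Subgroup.center X := fun ψ g hg =>
    (Subgroup.characteristic_iff_map_le.1 inferInstance ψ) ⟨g, hg, rfl⟩
  have hzmove : φ z ≠ z := by
    intro hz
    -- `φ` fixes `z`, so permutes the other two involutions
    have hne2 : φ (φ o) ≠ o := fun h => hne (fix_of_sq_fix (odd_order hA hφ) h)
    classical
    haveI := Fintype.ofFinite Ω
    let S : Finset Ω := {1, ⟨z, hzΩ.1⟩, ⟨o, ho, ho2⟩, ⟨φ o, hΩinv φ o ⟨ho, ho2⟩⟩,
      ⟨φ (φ o), hΩinv φ _ (hΩinv φ o ⟨ho, ho2⟩)⟩}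
    have ho1 : o ≠ 1 := fun h => hne (by rw [h, map_one])
    have a1 : φ o ≠ 1 := fun h => ho1 (φ.injective (h.trans (map_one φ).symm))
    have a2 : φ (φ o) ≠ 1 := fun h => a1 (φ.injective (h.trans (map_one φ).symm))
    have a3 : z ≠ o := fun h => hne (h ▸ hz)
    have a4 : z ≠ φ o := fun h => a3 (φ.injective (hz.trans h))
    have a5 : z ≠ φ (φ o) := fun h => a4 (φ.injective (hz.trans h))
    have a6 : φ o ≠ φ (φ o) := fun h => hne (φ.injective h).symm
    have : S.card = 5 := by
      simp [S, hz1'.symm, ho1.symm, a1.symm, a2.symm, a3, a4, a5, Ne.symm hne, hne2.symm, a6,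
        Subtype.ext_iff]
    have h5 := Finset.card_le_univ S
    rw [← Nat.card_eq_fintype_card, hcard4, this] at h5
    omega
  have hle : Ω ≤ Subgroup.center X := by
    have h2 : Nat.card Ω ≤ Nat.card ↥(Ω ⊓ Subgroup.center X : Subgroup X) := by
      have hz' : φ z ∈ Ω ⊓ Subgroup.center X := ⟨hΩinv φ z hzΩ.1, hcen φ z hzΩ.2⟩
      have hge : 2 * Nat.card (Subgroup.zpowers z) ≤ Nat.card ↥(Ω ⊓ Subgroup.center X : Subgroup X) := by
        refine card_two_mul_le ((Subgroup.zpowers_le).2 hzΩ) hz' ?_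
        rintro ⟨i, hi⟩
        simp only at hi
        rcases Int.even_or_odd i with ⟨j, rfl⟩ | ⟨j, rfl⟩
        · rw [zpow_add, ← (Commute.refl z).mul_zpow, hzΩ.1.2, one_zpow] at hi
          exact hz1' (φ.injective (hi.symm.trans (map_one φ).symm))
        · rw [zpow_add_one, two_mul, zpow_add, ← (Commute.refl z).mul_zpow, hzΩ.1.2, one_zpow,
            one_mul] at hi
          exact hzmove hi.symm
      rw [Nat.card_zpowers, orderOf_eq_prime (by rw [pow_two]; exact hzΩ.1.2) hz1'] at hge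
      omega
    exact fun x hx => ((Subgroup.eq_of_le_of_card_ge inf_le_left h2).symm ▸ hx :
      x ∈ Ω ⊓ Subgroup.center X).2
  refine hE ⟨Ω, φ, o, fun a ha => ha.2, hcard4, hle, fun w hw hw2 => ?_, hφ, ⟨ho, ho2⟩, hne⟩
  exact mem_four hno (B := Subgroup.center X) inferInstance inferInstance hle (fun a ha => ha.2) hcard4 hw hw2

end CfsgLib.NoSCN
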