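import Cfsg.Agent.Lib.NoSCN.Moved

/-!
The case of a moved four-group.
-/

set_option autoImplicit false
set_option linter.unusedSectionVars false
set_option linter.style.haveILetI false

namespace CfsgLib.NoSCN

open scoped commutatorElement

variable {X : Type*} [Group X] [Finite X]

theorem pairSub_normal' {N : Subgroup X} [N.Normal] {s : X} (hs : ∀ a : X, ⁅a, s⁆ ∈ N)
    (h : s * s ∈ N) : (pairSub N s).Normal := ⟨fun g hg a => by
  rcases mem_pairSub h hg with hg | hg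
  · exact le_pairSub N s (Subgroup.Normal.conj_mem inferInstance g hg a)
  · have e : a * g * a⁻¹ = ⁅a, s⁆ * s * (a * (s⁻¹ * g) * a⁻¹) := by
      simp only [commutatorElement_def]; group
    rw [e]
    exact mul_mem (mul_mem (le_pairSub N s (hs a)) (self_mem_pairSub N s))
      (le_pairSub N s (Subgroup.Normal.conj_mem inferInstance _ hg a))⟩

variable {A : Subgroup (MulAut X)} {E W : Subgroup X} {φ : MulAut X} {e : X}
  (hX : IsPGroup 2 X) (hA : Odd (Nat.card A)) (H : Ab A E φ e W)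
include hX hA H

/-- With a self-centralising `W` of exponent four all squares lie in `E`. -/
theorem squares_of_exponent_four (hG : Gen A)
    (hCW : ∀ g : X, (∀ w ∈ W, ⁅g, w⁆ = 1) → g ∈ W) (h4 : ∀ w ∈ W, (w * w) * (w * w) = 1) :
    (∀ x : X, x * x ∈ E) ∧ (W ≠ ⊤ → Subgroup.center X = E) := by
  have hsE : ∀ w ∈ W, w * w ∈ E := fun w hw => H.inv2 _ (mul_mem hw hw) (h4 w hw)
  have hCx : ∀ x : X, x ∉ W → ∀ w ∈ W, ⁅x, w⁆ = 1 → w ∈ E := by
    intro x hx w hw hxw
    by_contra hwE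
    refine hx (hCW x fun v hv => ?_)
    have hns : ∀ t ∈ W, w ≠ t * t := fun t ht h => hwE (h ▸ hsE t ht)
    have hb := H.map_mem φ hw
    have k1 : ⁅x, φ w⁆ = 1 := by
      rw [H.semilinear hX hA hG x hw (hsE w hw), hxw, map_one, map_one]
    have k2 : ⁅x, φ (φ w)⁆ = 1 := by
      rw [H.semilinear hX hA hG x hb (hsE _ hb), k1, map_one, map_one]
    obtain ⟨t, ht, h⟩ := H.classes_phi hX hA hw hns hv
    have k3 : ⁅x, t * t⁆ = 1 := H.bracket_four x (hsE t ht)
    rcases h with rfl | rfl | rfl | rfl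
    · exact k3
    · rw [H.bracket_mul x hw (mul_mem ht ht), hxw, k3, one_mul]
    · rw [H.bracket_mul x hb (mul_mem ht ht), k1, k3, one_mul]
    · rw [H.bracket_mul x (H.map_mem φ hb) (mul_mem ht ht), k2, k3, one_mul]
  have hsq : ∀ x : X, x * x ∈ E := by
    intro x
    by_cases hx : x ∈ W
    · exact hsE x hx
    refine hCx x hx _ (hCW _ fun w hw => ?_)
      (commutatorElement_eq_one_iff_mul_comm.2 (mul_assoc x x x).symm)
    have hE := H.bracket_mem_four x hw (hsE w hw)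
    rw [H.bracket_comp x x hw hE, H.four.sq _ hE]
  refine ⟨hsq, fun hW => le_antisymm (fun z hz => ?_) H.four.le⟩
  have hzW : z ∈ W := hCW z fun w _ =>
    commutatorElement_eq_one_iff_mul_comm.2 (Subgroup.mem_center_iff.1 hz w).symm
  obtain ⟨x, hx⟩ : ∃ x, x ∉ W := by
    by_contra h
    push Not at h
    exact hW (eq_top_iff.2 fun x _ => h x)
  exact hCx x hx z hzW (commutatorElement_eq_one_iff_mul_comm.2 (Subgroup.mem_center_iff.1 hz x))

/-- A self-centralising `W` has exponent at most four. -/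
theorem exponent_le_four (hG : Gen A) (hno : NoRankThree X) (hWtop : W ≠ ⊤)
    (hCW : ∀ g : X, (∀ w ∈ W, ⁅g, w⁆ = 1) → g ∈ W) : ∀ w ∈ W, (w * w) * (w * w) = 1 := by
  by_contra hne
  push Not at hne
  obtain ⟨w0, hw0, hw04⟩ := hne
  haveI : Fact (Nat.Prime 2) := ⟨Nat.prime_two⟩
  have p4 : ∀ w : X, w ^ 2 ^ 2 = (w * w) * (w * w) := fun w => by
    rw [show (2 : ℕ) ^ 2 = 2 + 2 from rfl, pow_add, pow_two]
  have p2 : ∀ w : X, w ^ 2 ^ 1 = w * w := fun w => by rw [pow_one, pow_two]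
  have hw02 : w0 * w0 ≠ 1 := fun h => hw04 (by rw [h, one_mul])
  have hEsq : ∀ a ∈ E, ∃ t ∈ W, a = t * t := fun a ha => by
    obtain ⟨t, ht, h⟩ := H.four_power hX hA (n := 1) hw0 (by rwa [p2]) ha
    exact ⟨t, ht, h.trans (p2 t)⟩
  have h4P : ∀ w ∈ W, w * w ∈ E → ∃ t ∈ W, w = t * t := by
    intro w hw hwE
    obtain ⟨s, hs, h⟩ := H.four_power hX hA (n := 2) hw0 (by rwa [p4]) hwE
    have hss := mul_mem hs hs
    obtain ⟨u, hu, h'⟩ := hEsq (w * (s * s)⁻¹) (H.inv2 _ (mul_mem hw (inv_mem hss)) (by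
      rw [H.sq_mul hw (inv_mem hss), h, p4, ← mul_inv_rev, mul_inv_cancel]))
    exact ⟨u * s, mul_mem hu hs, by rw [H.sq_mul hu hs, ← h', inv_mul_cancel_right]⟩
  haveI : W.Characteristic := H.char
  -- an element inducing a central involution modulo `W`
  obtain ⟨g, hgW, hg2, hgX⟩ : ∃ g, g ∉ W ∧ g * g ∈ W ∧ ∀ x : X, ⁅x, g⁆ ∈ W := by
    haveI : Nontrivial (X ⧸ W) := QuotientGroup.nontrivial_iff.2 hWtop
    haveI : Nontrivial (Subgroup.center (X ⧸ W)) := (hX.to_quotient W).center_nontrivial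
    obtain ⟨n, hn⟩ := ((hX.to_quotient W).to_subgroup (Subgroup.center (X ⧸ W))).exists_card_eq
    have h2 : 2 ∣ Nat.card (Subgroup.center (X ⧸ W)) := by
      rw [hn]
      refine dvd_pow_self 2 fun h0 => ?_
      rw [h0, pow_zero] at hn
      exact absurd (Nat.card_eq_one_iff_unique.1 hn).1 (not_subsingleton _)
    obtain ⟨⟨q, hq⟩, hq2⟩ := exists_prime_orderOf_dvd_card' 2 h2
    obtain ⟨g, rfl⟩ := QuotientGroup.mk'_surjective W q
    rw [← Subgroup.orderOf_coe] at hq2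
    obtain ⟨h1, h1'⟩ := orderOf_two_iff.1 hq2
    refine ⟨g, fun h => h1' ((QuotientGroup.eq_one_iff g).2 h), ?_, fun x => ?_⟩
    · rw [← map_mul] at h1
      exact (QuotientGroup.eq_one_iff _).1 h1
    · refine (QuotientGroup.eq_one_iff _).1 (show QuotientGroup.mk' W ⁅x, g⁆ = 1 from ?_)
      rw [map_commutatorElement, commutatorElement_eq_one_iff_mul_comm]
      exact Subgroup.mem_center_iff.1 hq _
  have hdd : ∀ w ∈ W, ⁅g, ⁅g, w⁆⁆ * (⁅g, w⁆ * ⁅g, w⁆) = 1 := by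
    intro w hw
    have h : ⁅g * g, w⁆ = 1 := commutatorElement_eq_one_iff_mul_comm.2 (H.comm _ hg2 w hw)
    rw [← h]
    simp [commutatorElement_def]
    group
  -- it centralises the elements of order four
  have kill : ∀ w ∈ W, w * w ∈ E → ⁅g, w⁆ = 1 := by
    have key : ∀ w ∈ W, w * w ∈ E → ∀ d ∈ W, d * d = ⁅g, w⁆ → ⁅g, d⁆ = ⁅g, w⁆ := by
      intro w hw hwE d hd hd2
      have haE := H.bracket_mem_four g hw hwE
      obtain ⟨t, ht, rfl⟩ := h4P w hw hwE
      have h0 : ⁅g, t⁆ * ⁅g, t⁆ = ⁅g, t * t⁆ := (H.bracket_mul g ht ht).symm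
      have h1 := eq_inv_of_mul_eq_one_left (hdd t ht)
      rw [h0, inv_eq_of_mul_eq_one_right (H.four.sq _ haE)] at h1
      have hbt := H.bracket_mem g ht
      have h2 : ⁅g, t⁆⁻¹ * d ∈ E := H.inv2 _ (mul_mem (inv_mem hbt) hd) (by
        rw [H.sq_mul (inv_mem hbt) hd, hd2, ← mul_inv_rev, h0, inv_mul_cancel])
      have h3 := H.bracket_mul g hbt (H.le h2)
      rw [mul_inv_cancel_left, h1, H.bracket_four g h2, mul_one] at h3
      exact h3
    intro w hw hwE
    have haE := H.bracket_mem_four g hw hwE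
    obtain ⟨t, ht, rfl⟩ := h4P w hw hwE
    set d := ⁅g, t⁆ with hddef
    have hdW : d ∈ W := H.bracket_mem g ht
    have hd2 : d * d = ⁅g, t * t⁆ := (H.bracket_mul g ht ht).symm
    have hda : ⁅g, d⁆ = ⁅g, t * t⁆ := key _ hw hwE d hdW hd2
    have hdE : d * d ∈ E := hd2 ▸ haE
    have hd1 := H.map_mem φ hdW
    have hd1E : φ d * φ d ∈ E := by rw [← map_mul]; exact H.four.invariant φ hdE
    have a1 : ⁅g, φ d⁆ = φ (φ ⁅g, t * t⁆) := by rw [H.semilinear hX hA hG g hdW hdE, hda]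
    have a2 : ⁅g, φ (φ d)⁆ = φ ⁅g, t * t⁆ := by
      rw [H.semilinear hX hA hG g hd1 hd1E, a1, H.phi3 hX hA (H.le (H.four.invariant φ haE))]
    have a3 := key _ hd1 hd1E (φ (φ d)) (H.map_mem φ hd1) (by rw [a1, ← map_mul, ← map_mul, hd2])
    rw [a1, a2] at a3
    exact H.fixed hX hA (H.le haE) (φ.injective a3).symm
  have hinE : ∀ j : ℕ, ∀ w ∈ W, w ^ 2 ^ j = 1 → ⁅g, w⁆ ∈ E := by
    intro j
    induction j with
    | zero =>
      intro w _ hj
      rw [pow_zero, pow_one] at hj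
      rw [hj, commutatorElement_one_right]
      exact one_mem E
    | succ j ih =>
      intro w hw hj
      have h := ih (w * w) (mul_mem hw hw) (by rwa [← pow_two, ← pow_mul, ← pow_succ'])
      rw [H.bracket_mul g hw hw] at h
      have h1 := hdd w hw
      rw [kill _ (H.bracket_mem g hw) h, one_mul] at h1
      exact H.inv2 _ (H.bracket_mem g hw) h1
  have hgE : ∀ w ∈ W, ⁅g, w⁆ ∈ E := fun w hw => by
    obtain ⟨j, hj⟩ := hX w
    exact hinE j w hw hj
  -- a choice with faithful action modulo squares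
  obtain ⟨h, hhW, hh2, hhX, hhE, hinj⟩ : ∃ h, h ∉ W ∧ h * h ∈ W ∧ (∀ x : X, ⁅x, h⁆ ∈ W) ∧
      (∀ w ∈ W, ⁅h, w⁆ ∈ E) ∧ ∀ w ∈ W, ⁅h, w⁆ = 1 → ∃ t ∈ W, w = t * t := by
    by_cases hcase : ∀ w ∈ W, ⁅g, w⁆ = 1 → ∃ t ∈ W, w = t * t
    · exact ⟨g, hgW, hg2, hgX, hgE, hcase⟩
    push Not at hcase
    obtain ⟨w1, hw1, hgw1, hns⟩ := hcase
    have hb := H.map_mem φ hw1
    have hc := H.map_mem φ hb
    have hsqk : ∀ t ∈ W, ⁅g, t * t⁆ = 1 := fun t ht => by
      rw [H.bracket_mul g ht ht, H.four.sq _ (hgE t ht)]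
    set a := ⁅g, φ w1⁆ with hadef
    have haE : a ∈ E := hgE _ hb
    have ha2 : ⁅g, φ (φ w1)⁆ = a := by
      have h := congrArg (fun u => ⁅g, u⁆) (H.three hX hA hw1)
      simp only [H.bracket_mul g (mul_mem hw1 hb) hc, H.bracket_mul g hw1 hb, hgw1, one_mul,
        commutatorElement_one_right] at h
      rw [← inv_eq_of_mul_eq_one_right h, inv_eq_of_mul_eq_one_right (H.four.sq a haE)]
    have ha1 : a ≠ 1 := by
      intro ha
      refine hgW (hCW g fun v hv => ?_)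
      obtain ⟨t, ht, h⟩ := H.classes_phi hX hA hw1 hns hv
      rcases h with rfl | rfl | rfl | rfl
      · exact hsqk t ht
      · rw [H.bracket_mul g hw1 (mul_mem ht ht), hgw1, hsqk t ht, one_mul]
      · rw [H.bracket_mul g hb (mul_mem ht ht), ← hadef, ha, hsqk t ht, one_mul]
      · rw [H.bracket_mul g hc (mul_mem ht ht), ha2, ha, hsqk t ht, one_mul]
    have hφgE : ∀ v ∈ W, ⁅φ g, v⁆ ∈ E := fun v hv => by
      rw [show ⁅φ g, v⁆ = φ ⁅g, φ⁻¹ v⁆ by simp [map_commutatorElement]]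
      exact H.four.invariant φ (hgE _ (H.map_mem φ⁻¹ hv))
    have hφg : ∀ u : X, ⁅φ g, φ u⁆ = φ ⁅g, u⁆ := fun u => (map_commutatorElement φ g u).symm
    have b1 : ⁅g * φ g, w1⁆ = φ a := by
      have h := hφg (φ (φ w1))
      rw [H.phi3 hX hA hw1, ha2] at h
      rw [H.bracket_comp g (φ g) hw1 (hφgE _ hw1), hgw1, one_mul, h]
    have b2 : ⁅g * φ g, φ w1⁆ = a := by
      rw [H.bracket_comp g (φ g) hb (hφgE _ hb), hφg, hgw1, map_one, mul_one]
    have b3 : ⁅g * φ g, φ (φ w1)⁆ = a * φ a := by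
      rw [H.bracket_comp g (φ g) hc (hφgE _ hc), hφg, ha2]
    have hne3 : a * φ a ≠ 1 := fun h => ha1 (H.four.fixed_eq_one hA haE (by
      rw [← inv_eq_of_mul_eq_one_right h, inv_eq_of_mul_eq_one_right (H.four.sq a haE)]))
    have hne1 : φ a ≠ 1 := fun h => ha1 (φ.injective (h.trans (map_one φ).symm))
    have hE' : ∀ w ∈ W, ⁅g * φ g, w⁆ ∈ E := fun w hw => by
      rw [H.bracket_comp g (φ g) hw (hφgE w hw)]
      exact mul_mem (hgE w hw) (hφgE w hw)
    refine ⟨g * φ g, fun h => hne1 ?_, ?_, fun x => ?_, hE', fun w hw hw1' => ?_⟩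
    · rw [← b1]
      exact commutatorElement_eq_one_iff_mul_comm.2 (H.comm _ h w1 hw1)
    · have e : g * φ g * (g * φ g) = (g * ⁅φ g, g⁆ * g⁻¹) * (g * g) * (φ g * φ g) := by
        simp [commutatorElement_def]; group
      rw [e, ← map_mul]
      exact mul_mem (mul_mem (H.conj_mem g (hgX _)) hg2) (H.map_mem φ hg2)
    · have e : ⁅x, g * φ g⁆ = ⁅x, g⁆ * (g * ⁅x, φ g⁆ * g⁻¹) := by
        simp [commutatorElement_def]; group
      rw [e, show ⁅x, φ g⁆ = φ ⁅φ⁻¹ x, g⁆ by simp [map_commutatorElement]]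
      exact mul_mem (hgX x) (H.conj_mem g (H.map_mem φ (hgX _)))
    · obtain ⟨t, ht, h⟩ := H.classes_phi hX hA hw1 hns hw
      have hk : ⁅g * φ g, t * t⁆ = 1 := by
        rw [H.bracket_mul _ ht ht, H.four.sq _ (hE' t ht)]
      rcases h with rfl | rfl | rfl | rfl
      · exact ⟨t, ht, rfl⟩
      · rw [H.bracket_mul _ hw1 (mul_mem ht ht), b1, hk, mul_one] at hw1'
        exact absurd hw1' hne1
      · rw [H.bracket_mul _ hb (mul_mem ht ht), b2, hk, mul_one] at hw1'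
        exact absurd hw1' ha1
      · rw [H.bracket_mul _ hc (mul_mem ht ht), b3, hk, mul_one] at hw1'
        exact absurd hw1' hne3
  have hsqk : ∀ t ∈ W, ⁅h, t * t⁆ = 1 := fun t ht => by
    rw [H.bracket_mul h ht ht, H.four.sq _ (hhE t ht)]
  -- a lift of `h` which is an involution
  let σ : W →* W := MonoidHom.mk' (fun w => ⟨⁅h, w⁆, H.bracket_mem h w.2⟩ * (w * w)) fun a b => by
    refine Subtype.ext ?_
    show ⁅h, (a : X) * b⁆ * ((a : X) * b * (a * b)) = ⁅h, (a : X)⁆ * (a * a) * (⁅h, (b : X)⁆ * (b * b))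
    rw [H.bracket_mul h a.2 b.2, H.sq_mul a.2 b.2, mul_assoc ⁅h, (a : X)⁆,
      ← mul_assoc ⁅h, (b : X)⁆, ← H.comm _ (mul_mem a.2 a.2) _ (H.bracket_mem h b.2)]
    group
  have hker : σ.ker = E.subgroupOf W := by
    ext w
    rw [MonoidHom.mem_ker, Subgroup.mem_subgroupOf]
    constructor
    · intro hw
      have h1 : ⁅h, (w : X)⁆ * ((w : X) * w) = 1 := congrArg Subtype.val hw
      have h2 : (w : X) * w ∈ E := by
        rw [← inv_eq_of_mul_eq_one_right h1]
        exact inv_mem (hhE _ w.2)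
      obtain ⟨t, ht, h3⟩ := h4P _ w.2 h2
      rw [h3, hsqk t ht, one_mul, ← h3] at h1
      exact H.inv2 _ w.2 h1
    · intro hw
      exact Subtype.ext (show ⁅h, (w : X)⁆ * ((w : X) * w) = 1 by
        rw [H.bracket_four h hw, H.four.sq _ hw, one_mul])
  have hrange : σ.range = H.sqHom.range := by
    refine Subgroup.eq_of_le_of_card_ge ?_ ?_
    · rintro _ ⟨w, rfl⟩
      obtain ⟨t, ht, h1⟩ := hEsq _ (hhE _ w.2)
      refine ⟨⟨t, ht⟩ * w, Subtype.ext ?_⟩
      show (t : X) * (w : X) * (t * w) = ⁅h, (w : X)⁆ * ((w : X) * w)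
      rw [H.sq_mul ht w.2, h1]
    · have h1 := σ.ker.card_mul_index
      rw [Subgroup.index_ker, hker, Nat.card_congr (Subgroup.subgroupOfEquivOfLe H.le).toEquiv,
        H.four.card] at h1
      have h2 := H.card_sqHom_range
      omega
  obtain ⟨v, hv, hh2'⟩ := hinj _ hh2 (commutatorElement_eq_one_iff_mul_comm.2 (mul_assoc h h h).symm)
  obtain ⟨u, hu⟩ : (⟨h * h, hh2⟩ : W)⁻¹ ∈ σ.range := by
    rw [hrange]
    exact inv_mem ⟨⟨v, hv⟩, Subtype.ext hh2'.symm⟩
  have hu' : ⁅h, (u : X)⁆ * ((u : X) * u) = (h * h)⁻¹ := congrArg Subtype.val hu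
  have hcE : ∀ w ∈ W, h⁻¹ * w * h = ⁅h, w⁆ * w := by
    intro w hw
    have hd := hhE w hw
    calc h⁻¹ * w * h = h⁻¹ * (⁅h, w⁆⁻¹ * (h * w * h⁻¹)) * h := by simp only [commutatorElement_def]; group
      _ = (h⁻¹ * ⁅h, w⁆⁻¹) * h * w := by group
      _ = ⁅h, w⁆ * w := by
        rw [inv_eq_of_mul_eq_one_right (H.four.sq _ hd), H.four.comm hd h⁻¹, inv_mul_cancel_right]
  set τ := h * (u : X) with hτdef
  have hτ2 : τ * τ = 1 := by
    calc τ * τ = h * h * ((h⁻¹ * u * h) * u) := by rw [hτdef]; group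
      _ = 1 := by rw [hcE _ u.2, mul_assoc ⁅h, (u : X)⁆, hu', mul_inv_cancel]
  have hτW : τ ∉ W := fun h' => hhW (by
    have := mul_mem h' (inv_mem u.2)
    rwa [hτdef, mul_inv_cancel_right] at this)
  have hτX : ∀ x : X, ⁅x, τ⁆ ∈ E := by
    intro x
    have hwW : ⁅x, τ⁆ ∈ W := by
      have e : ⁅x, τ⁆ = ⁅x, h⁆ * (h * ⁅x, (u : X)⁆ * h⁻¹) := by
        simp [hτdef, commutatorElement_def]; group
      rw [e]
      exact mul_mem (hhX x) (H.conj_mem h (H.bracket_mem x u.2))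
    have h1 : ⁅x, τ⁆ * τ * (⁅x, τ⁆ * τ) = 1 := by
      calc ⁅x, τ⁆ * τ * (⁅x, τ⁆ * τ) = x * (τ * τ) * x⁻¹ := by simp only [commutatorElement_def]; group
        _ = 1 := by rw [hτ2, mul_one, mul_inv_cancel]
    set w := ⁅x, τ⁆ with hwdef
    have h2 : τ * w * τ = ⁅h, w⁆ * w := by
      calc τ * w * τ = τ * w * τ⁻¹ := by rw [inv_eq_of_mul_eq_one_right hτ2]
        _ = h * ((u : X) * w * (u : X)⁻¹) * h⁻¹ := by rw [hτdef]; group
        _ = h * w * h⁻¹ := by rw [H.comm _ u.2 w hwW, mul_inv_cancel_right]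
        _ = ⁅h, w⁆ * w := by simp [commutatorElement_def]
    have h3 : ⁅h, w⁆ * (w * w) = 1 := by
      rw [← h1, mul_assoc w τ, ← mul_assoc τ w τ, h2, ← mul_assoc w, H.comm w hwW _
        (H.bracket_mem h hwW), mul_assoc]
    have h5 : (⟨w, hwW⟩ : W) ∈ σ.ker := Subtype.ext h3
    rw [hker] at h5
    exact h5
  haveI : E.Normal := ⟨fun n hn g => by rwa [H.four.comm hn g, mul_inv_cancel_right]⟩
  haveI := pairSub_normal' hτX (by rw [hτ2]; exact one_mem E)
  exact hτW (H.le (mem_four hno (B := pairSub E τ) inferInstance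
    (pairSub_comm (fun a _ b hb => H.four.comm hb a) (fun a ha => H.four.comm ha τ)
      (by rw [hτ2]; exact one_mem E))
    (le_pairSub E τ) H.four.sq H.four.card (self_mem_pairSub E τ) hτ2))

omit H

/-- The case of a moved four-group. -/
theorem concl_of_moved (hno : NoRankThree X) (hG : Gen A) (hna : ¬ IsMulCommutative X)
    (F : Four A E φ e) : Concl X := by
  haveI : Fact (Nat.Prime 2) := ⟨Nat.prime_two⟩
  obtain ⟨K, hKc, hKp, hKcomm, hKC⟩ := Critical.exists_isCrit hX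
  haveI := hKc
  set W := Subgroup.centralizer (K : Set X) with hW
  haveI hWchar : W.Characteristic := by rw [hW]; infer_instance
  have hcK : ∀ w ∈ W, ∀ k ∈ K, w * k = k * w := fun w hw k hk =>
    (Subgroup.mem_centralizer_iff.1 hw k hk).symm
  have hWab : ∀ a ∈ W, ∀ b ∈ W, a * b = b * a := fun a ha b hb => hcK a ha b (hKC hb)
  have hEW : E ≤ W := F.le.trans (Subgroup.center_le_centralizer _)
  have H : Ab A E φ e W := ⟨F, hWchar, hWab, hEW, fun w hw hw2 =>
    mem_four hno (B := W) inferInstance ⟨⟨fun a b => Subtype.ext (hWab _ a.2 _ b.2)⟩⟩ hEW F.sq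
      F.card hw hw2⟩
  have hKsq : ∀ x ∈ K, x * x ∈ W := fun x hx => by rw [← pow_two]; exact (hKp x hx).2
  have hKbr : ∀ k ∈ K, ∀ x : X, ⁅k, x⁆ ∈ W := fun k hk x =>
    (hKcomm (Subgroup.commutator_mem_commutator hk (Subgroup.mem_top x))).2
  by_cases hexp : ∀ w ∈ W, w * w = 1
  · -- `W = E`
    have hWE : ∀ w ∈ W, w ∈ E := fun w hw => H.inv2 w hw (hexp w hw)
    have hsq : ∀ x : X, x * x ∈ E := by
      intro x
      refine hWE _ (Subgroup.mem_centralizer_iff.2 fun k hk => ?_)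
      have hcE : ⁅x, k⁆ ∈ E := by
        rw [← commutatorElement_inv]
        exact inv_mem (hWE _ (hKbr k hk x))
      have e : x * x * k = ⁅x, k⁆ * ⁅x, k⁆ * k * (x * x) := by
        calc x * x * k = (x * ⁅x, k⁆) * (k * x) := by simp [commutatorElement_def]; group
          _ = ⁅x, k⁆ * (x * k) * x := by rw [F.comm hcE x]; group
          _ = ⁅x, k⁆ * (⁅x, k⁆ * k * x) * x := by simp [commutatorElement_def]
          _ = ⁅x, k⁆ * ⁅x, k⁆ * k * (x * x) := by group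
      rw [e, F.sq _ hcE, one_mul]
    have hZ : Subgroup.center X = E :=
      le_antisymm (fun z hz => hWE z (Subgroup.center_le_centralizer _ hz)) F.le
    exact concl_of_four hX hno hA hG hna F hZ hsq
  push Not at hexp
  obtain ⟨w0, hw0, hw02⟩ := hexp
  have hEsq : ∀ a ∈ E, ∃ t ∈ W, a = t * t := fun a ha => by
    obtain ⟨t, ht, h⟩ := H.four_power hX hA (n := 1) hw0 (by rwa [pow_one, pow_two]) ha
    exact ⟨t, ht, by rwa [pow_one, pow_two] at h⟩
  -- `K = W`
  have hKE : ∀ x ∈ K, ∀ y ∈ K, ⁅x, y⁆ ∈ E := by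
    intro x hx y hy
    have hcW := hKbr x hx y
    refine H.inv2 _ hcW ?_
    have h1 : ⁅x * x, y⁆ = 1 := commutatorElement_eq_one_iff_mul_comm.2 (hcK _ (hKsq x hx) y hy)
    rw [← h1]
    calc ⁅x, y⁆ * ⁅x, y⁆ = (⁅x, y⁆ * x) * x⁻¹ * ⁅x, y⁆ := by group
      _ = (x * ⁅x, y⁆) * x⁻¹ * ⁅x, y⁆ := by rw [hcK _ hcW x hx]
      _ = ⁅x * x, y⁆ := by simp [commutatorElement_def]; group
  have hKns : ∀ x ∈ K, x ∉ W → ∀ t ∈ W, x * x ≠ t * t := by
    intro x hx hxW t ht h
    have hct : x * t = t * x := (hcK t ht x hx).symm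
    have hs2 : (x * t⁻¹) * (x * t⁻¹) = 1 := by
      have hci : t⁻¹ * x = x * t⁻¹ := by
        rw [inv_mul_eq_iff_eq_mul, ← mul_assoc, ← hct, mul_inv_cancel_right]
      calc (x * t⁻¹) * (x * t⁻¹) = x * (t⁻¹ * x) * t⁻¹ := by group
        _ = (x * x) * (t * t)⁻¹ := by rw [hci]; group
        _ = 1 := by rw [h, mul_inv_cancel]
    have hsK : x * t⁻¹ ∈ K := mul_mem hx (inv_mem (hKC ht))
    haveI := pairSub_normal' (N := W) (s := x * t⁻¹) (fun a => by
      rw [← commutatorElement_inv]; exact inv_mem (hKbr _ hsK a)) (by rw [hs2]; exact one_mem W)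
    have h' := mem_four hno (B := pairSub W (x * t⁻¹)) inferInstance
      (pairSub_comm hWab (fun a ha => (hcK a ha _ hsK).symm) (by rw [hs2]; exact one_mem W))
      (hEW.trans (le_pairSub W _)) F.sq F.card (self_mem_pairSub W _) hs2
    exact hxW (by simpa using mul_mem (hEW h') ht)
  have hKW : K ≤ W := by
    intro x hx
    by_contra hxW
    obtain ⟨y, hy, hxy⟩ : ∃ y ∈ K, ⁅x, y⁆ ≠ 1 := by
      by_contra h
      push Not at h
      exact hxW (Subgroup.mem_centralizer_iff.2 fun k hk =>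
        (commutatorElement_eq_one_iff_mul_comm.1 (h k hk)).symm)
    have hcE := hKE x hx y hy
    have hyW : y ∉ W := fun h =>
      hxy (commutatorElement_eq_one_iff_mul_comm.2 (hcK y h x hx).symm)
    have hxyK := mul_mem hx hy
    have hxyW : x * y ∉ W := fun h => hxy (by
      rw [commutatorElement_eq_one_iff_mul_comm]
      have h' := hcK _ h x hx
      exact (mul_left_cancel (by rw [← mul_assoc]; exact hcK _ h x hx)).symm)
    have hxxyy : ∀ p ∈ K, ∀ q ∈ K, ∃ t ∈ W, p * p * (q * q) = (p * q) * (p * q) * (t * t) := by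
      intro p hp q hq
      obtain ⟨t, ht, h⟩ := hEsq _ (hKE p hp q hq)
      refine ⟨t, ht, ?_⟩
      rw [← h]
      have hc := hKE p hp q hq
      calc p * p * (q * q) = p * (⁅p, q⁆ * (q * p)) * q := by simp [commutatorElement_def]; group
        _ = (p * ⁅p, q⁆) * q * p * q := by group
        _ = ⁅p, q⁆ * (p * q * (p * q)) := by rw [F.comm hc p]; group
        _ = _ := (F.comm hc _).symm
    have h3 : ∀ t ∈ W, x * x * (y * y) ≠ t * t := by
      intro t ht h
      obtain ⟨s, hs, h'⟩ := hxxyy x hx y hy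
      refine hKns _ hxyK hxyW (t * s⁻¹) (mul_mem ht (inv_mem hs)) ?_
      rw [H.sq_mul ht (inv_mem hs), ← h, h']
      group
    -- all squares of `K` lie in the four classes given by `x` and `y`
    have hrep : ∀ k ∈ K, k ∈ W ∨ x⁻¹ * k ∈ W ∨ y⁻¹ * k ∈ W ∨ (x * y)⁻¹ * k ∈ W := by
      intro k hk
      have hin : ∀ p ∈ K, (∃ t ∈ W, k * k = p * p * (t * t)) → p⁻¹ * k ∈ W := by
        rintro p hp ⟨t, ht, h⟩
        by_contra hn
        obtain ⟨s, hs, h'⟩ := hxxyy p hp (p⁻¹ * k) (mul_mem (inv_mem hp) hk)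
        rw [mul_inv_cancel_left, h] at h'
        refine hKns _ (mul_mem (inv_mem hp) hk) hn (t * s) (mul_mem ht hs) ?_
        rw [H.sq_mul ht hs]
        exact mul_left_cancel (h'.trans (mul_assoc _ _ _))
      obtain ⟨t, ht, h⟩ := H.classes (hKsq x hx) (hKsq y hy) (hKns x hx hxW) (hKns y hy hyW) h3
        (hKsq k hk)
      rcases h with h | h | h | h
      · have := hin 1 (one_mem K) ⟨t, ht, by rw [one_mul, one_mul, h]⟩
        rw [inv_one, one_mul] at this
        exact Or.inl this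
      · exact Or.inr (Or.inl (hin x hx ⟨t, ht, h⟩))
      · exact Or.inr (Or.inr (Or.inl (hin y hy ⟨t, ht, h⟩)))
      · obtain ⟨s, hs, h'⟩ := hxxyy x hx y hy
        refine Or.inr (Or.inr (Or.inr (hin _ hxyK ⟨s * t, mul_mem hs ht, ?_⟩)))
        rw [h, h', H.sq_mul hs ht, mul_assoc]
    set c := ⁅x, y⁆ with hcdef
    have hM : ∀ p ∈ K, ∀ q ∈ K, ⁅p, q⁆ ∈ Subgroup.zpowers c := by
      have hmul : ∀ p ∈ K, ∀ q ∈ K, ∀ r ∈ K, ⁅p, q * r⁆ = ⁅p, q⁆ * ⁅p, r⁆ := by
        intro p hp q hq r hr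
        have hc := hKE p hp r hr
        calc ⁅p, q * r⁆ = ⁅p, q⁆ * (q * ⁅p, r⁆) * q⁻¹ := by simp [commutatorElement_def]; group
          _ = ⁅p, q⁆ * ⁅p, r⁆ := by rw [F.comm hc q]; group
      have hW1 : ∀ p ∈ K, ∀ w ∈ W, ⁅p, w⁆ = 1 := fun p hp w hw =>
        commutatorElement_eq_one_iff_mul_comm.2 (hcK w hw p hp).symm
      have hlin : ∀ p ∈ K, ⁅p, x⁆ ∈ Subgroup.zpowers c → ⁅p, y⁆ ∈ Subgroup.zpowers c →
          ∀ q ∈ K, ⁅p, q⁆ ∈ Subgroup.zpowers c := by
        intro p hp hpx hpy q hq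
        have hgen : ∀ r ∈ K, ⁅p, r⁆ ∈ Subgroup.zpowers c → r⁻¹ * q ∈ W →
            ⁅p, q⁆ ∈ Subgroup.zpowers c := by
          intro r hr h1 h2
          have := hmul p hp r hr (r⁻¹ * q) (hKC h2)
          rw [mul_inv_cancel_left, hW1 p hp _ h2, mul_one] at this
          rwa [this]
        rcases hrep q hq with h | h | h | h
        · rw [hW1 p hp q h]; exact one_mem _
        · exact hgen x hx hpx h
        · exact hgen y hy hpy h
        · exact hgen _ hxyK (by rw [hmul p hp x hx y hy]; exact mul_mem hpx hpy) h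
      have hx' : ∀ q ∈ K, ⁅x, q⁆ ∈ Subgroup.zpowers c :=
        hlin x hx (by rw [commutatorElement_self]; exact one_mem _) (Subgroup.mem_zpowers c)
      have hy' : ∀ q ∈ K, ⁅y, q⁆ ∈ Subgroup.zpowers c :=
        hlin y hy (by rw [← commutatorElement_inv]; exact inv_mem (Subgroup.mem_zpowers c))
          (by rw [commutatorElement_self]; exact one_mem _)
      intro p hp q hq
      refine hlin p hp ?_ ?_ q hq
      · rw [← commutatorElement_inv]; exact inv_mem (hx' p hp)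
      · rw [← commutatorElement_inv]; exact inv_mem (hy' p hp)
    have hφK : ∀ k ∈ K, φ k ∈ K := fun k hk =>
      (Subgroup.characteristic_iff_map_le.1 hKc φ) ⟨k, hk, rfl⟩
    have h := hM _ (hφK x hx) _ (hφK y hy)
    rw [← map_commutatorElement] at h
    rcases eq_or_eq_of_mem_zpowers (F.sq c hcE) h with h | h
    · exact hxy (φ.injective (h.trans (map_one φ).symm))
    · exact hxy (F.fixed_eq_one hA hcE h)
  have hCW : ∀ g : X, (∀ w ∈ W, ⁅g, w⁆ = 1) → g ∈ W := fun g hg =>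
    Subgroup.mem_centralizer_iff.2 fun k hk =>
      (commutatorElement_eq_one_iff_mul_comm.1 (hg k (hKW hk))).symm
  have hWtop : W ≠ ⊤ := fun h => hna ⟨⟨fun a b =>
    hWab a (h ▸ Subgroup.mem_top a) b (h ▸ Subgroup.mem_top b)⟩⟩
  have h4 := exponent_le_four hX hA H hG hno hWtop hCW
  obtain ⟨hsq, hZ⟩ := squares_of_exponent_four hX hA H hG hCW h4
  exact concl_of_four hX hno hA hG hna F (hZ hWtop) hsq

end CfsgLib.NoSCN
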