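import Cfsg.Agent.Lib.NoSCN.Central

/-!
The characteristic abelian subgroup of a critical subgroup, over a moved four-group.
-/

set_option autoImplicit false
set_option linter.unusedSectionVars false
set_option linter.style.haveILetI false

namespace CfsgLib.NoSCN

open scoped commutatorElement

variable {X : Type*} [Group X] [Finite X]

/-- A characteristic abelian subgroup over the four-group. -/
structure Ab (A : Subgroup (MulAut X)) (E : Subgroup X) (φ : MulAut X) (e : X) (W : Subgroup X) :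
    Prop where
  four : Four A E φ e
  char : W.Characteristic
  comm : ∀ a ∈ W, ∀ b ∈ W, a * b = b * a
  le : E ≤ W
  inv2 : ∀ w ∈ W, w * w = 1 → w ∈ E

variable {A : Subgroup (MulAut X)} {E W : Subgroup X} {φ : MulAut X} {e : X}

namespace Ab

theorem map_mem (H : Ab A E φ e W) (ψ : MulAut X) {w : X} (hw : w ∈ W) : ψ w ∈ W :=
  (Subgroup.characteristic_iff_map_le.1 H.char ψ) ⟨w, hw, rfl⟩

theorem conj_mem (H : Ab A E φ e W) (g : X) {w : X} (hw : w ∈ W) : g * w * g⁻¹ ∈ W :=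
  H.map_mem (MulAut.conj g) hw

theorem bracket_mem (H : Ab A E φ e W) (g : X) {w : X} (hw : w ∈ W) : ⁅g, w⁆ ∈ W :=
  mul_mem (H.conj_mem g hw) (inv_mem hw)

theorem bracket_mul (H : Ab A E φ e W) (g : X) {a b : X} (ha : a ∈ W) (hb : b ∈ W) :
    ⁅g, a * b⁆ = ⁅g, a⁆ * ⁅g, b⁆ := by
  have h : a * ⁅g, b⁆ = ⁅g, b⁆ * a := H.comm a ha _ (H.bracket_mem g hb)
  calc ⁅g, a * b⁆ = ⁅g, a⁆ * (a * ⁅g, b⁆) * a⁻¹ := by simp [commutatorElement_def]; group
    _ = ⁅g, a⁆ * ⁅g, b⁆ := by rw [h]; group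

theorem bracket_inv (H : Ab A E φ e W) (g : X) {a : X} (ha : a ∈ W) : ⁅g, a⁻¹⁆ = ⁅g, a⁆⁻¹ := by
  have h := H.bracket_mul g ha (inv_mem ha)
  rw [mul_inv_cancel, commutatorElement_one_right] at h
  exact eq_inv_of_mul_eq_one_right h.symm

theorem bracket_four (H : Ab A E φ e W) (g : X) {a : X} (ha : a ∈ E) : ⁅g, a⁆ = 1 :=
  commutatorElement_eq_one_iff_mul_comm.2 (H.four.comm ha g)

theorem sq_mul (H : Ab A E φ e W) {a b : X} (ha : a ∈ W) (hb : b ∈ W) :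
    a * b * (a * b) = a * a * (b * b) := by
  calc a * b * (a * b) = a * (b * a) * b := by group
    _ = a * (a * b) * b := by rw [H.comm b hb a ha]
    _ = a * a * (b * b) := by group

theorem bracket_mem_four (H : Ab A E φ e W) (g : X) {w : X} (hw : w ∈ W) (h : w * w ∈ E) :
    ⁅g, w⁆ ∈ E := by
  refine H.inv2 _ (H.bracket_mem g hw) ?_
  rw [← H.bracket_mul g hw hw, H.bracket_four g h]

theorem bracket_comp (H : Ab A E φ e W) (g h : X) {w : X} (hw : w ∈ W) (hE : ⁅h, w⁆ ∈ E) :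
    ⁅g * h, w⁆ = ⁅g, w⁆ * ⁅h, w⁆ := by
  calc ⁅g * h, w⁆ = (g * ⁅h, w⁆) * g⁻¹ * ⁅g, w⁆ := by simp [commutatorElement_def]; group
    _ = ⁅h, w⁆ * ⁅g, w⁆ := by rw [H.four.comm hE g]; group
    _ = ⁅g, w⁆ * ⁅h, w⁆ := (H.four.comm hE _).symm

/-- The squaring map of `W`. -/
def sqHom (H : Ab A E φ e W) : W →* W :=
  MonoidHom.mk' (fun w => w * w) fun a b => Subtype.ext (H.sq_mul a.2 b.2)

theorem card_sqHom_range (H : Ab A E φ e W) : Nat.card H.sqHom.range * 4 = Nat.card W := by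
  have hk : H.sqHom.ker = E.subgroupOf W := by
    ext w
    rw [MonoidHom.mem_ker, Subgroup.mem_subgroupOf]
    exact ⟨fun h => H.inv2 w w.2 (congrArg Subtype.val h), fun h => Subtype.ext (H.four.sq _ h)⟩
  have h := H.sqHom.ker.card_mul_index
  rw [Subgroup.index_ker, hk, Nat.card_congr (Subgroup.subgroupOfEquivOfLe H.le).toEquiv,
    H.four.card] at h
  rw [mul_comm, h]

/-- Three non-squares whose product is a square represent all classes modulo squares. -/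
theorem classes (H : Ab A E φ e W) {a b : X} (ha : a ∈ W) (hb : b ∈ W)
    (h1 : ∀ t ∈ W, a ≠ t * t) (h2 : ∀ t ∈ W, b ≠ t * t) (h3 : ∀ t ∈ W, a * b ≠ t * t)
    {w : X} (hw : w ∈ W) : ∃ t ∈ W,
      w = t * t ∨ w = a * (t * t) ∨ w = b * (t * t) ∨ w = a * b * (t * t) := by
  classical
  set R := H.sqHom.range with hR
  haveI : R.Normal := ⟨fun n hn g => by
    have : g * n * g⁻¹ = n := by
      rw [show g * n = n * g from Subtype.ext (H.comm _ g.2 _ n.2), mul_inv_cancel_right]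
    rwa [this]⟩
  have hidx : R.index = 4 := by
    have h := R.card_mul_index
    rw [← H.card_sqHom_range, ← hR] at h
    exact Nat.eq_of_mul_eq_mul_left Nat.card_pos h
  haveI := Fintype.ofFinite (W ⧸ R)
  let f : Fin 4 → W ⧸ R := ![1, QuotientGroup.mk' R ⟨a, ha⟩, QuotientGroup.mk' R ⟨b, hb⟩,
    QuotientGroup.mk' R (⟨a, ha⟩ * ⟨b, hb⟩)]
  have ne1 : ∀ (v : W), (∀ t ∈ W, (v : X) ≠ t * t) → QuotientGroup.mk' R v ≠ 1 := by
    intro v hv h
    obtain ⟨t, ht⟩ := (QuotientGroup.eq_one_iff v).1 h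
    exact hv t t.2 (congrArg Subtype.val ht).symm
  have n1 := ne1 ⟨a, ha⟩ h1
  have n2 := ne1 ⟨b, hb⟩ h2
  have n3 := ne1 (⟨a, ha⟩ * ⟨b, hb⟩) h3
  have n4 : QuotientGroup.mk' R ⟨a, ha⟩ ≠ QuotientGroup.mk' R ⟨b, hb⟩ := by
    intro h
    refine n3 ?_
    rw [map_mul, ← h, ← map_mul]
    exact (QuotientGroup.eq_one_iff _).2 ⟨⟨a, ha⟩, rfl⟩
  have n5 : QuotientGroup.mk' R (⟨a, ha⟩ * ⟨b, hb⟩) ≠ QuotientGroup.mk' R ⟨a, ha⟩ := by
    rw [map_mul]; exact fun h => n2 (mul_eq_left.1 h)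
  have n6 : QuotientGroup.mk' R (⟨a, ha⟩ * ⟨b, hb⟩) ≠ QuotientGroup.mk' R ⟨b, hb⟩ := by
    rw [map_mul]; exact fun h => n1 (mul_eq_right.1 h)
  have hinj : Function.Injective f := by
    intro i j h
    fin_cases i <;> fin_cases j <;>
      first
        | rfl
        | exact absurd h n1 | exact absurd h.symm n1
        | exact absurd h n2 | exact absurd h.symm n2
        | exact absurd h n3 | exact absurd h.symm n3
        | exact absurd h n4 | exact absurd h.symm n4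
        | exact absurd h n5 | exact absurd h.symm n5
        | exact absurd h n6 | exact absurd h.symm n6
  have hbij : Function.Bijective f := (Fintype.bijective_iff_injective_and_card f).2
    ⟨hinj, by rw [Fintype.card_fin, ← Nat.card_eq_fintype_card, ← Subgroup.index_eq_card, hidx]⟩
  obtain ⟨i, hi⟩ := hbij.2 (QuotientGroup.mk' R ⟨w, hw⟩)
  have fin : ∀ v : W, QuotientGroup.mk' R v = QuotientGroup.mk' R ⟨w, hw⟩ →
      ∃ t ∈ W, w = (v : X) * (t * t) := by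
    intro v h
    obtain ⟨t, ht⟩ := QuotientGroup.eq.1 h
    exact ⟨t, t.2, by rw [show (t : X) * t = (v : X)⁻¹ * w from congrArg Subtype.val ht,
      mul_inv_cancel_left]⟩
  fin_cases i
  · obtain ⟨t, ht, h⟩ := fin 1 (by rw [map_one]; exact hi)
    exact ⟨t, ht, Or.inl (by simpa using h)⟩
  · obtain ⟨t, ht, h⟩ := fin _ hi
    exact ⟨t, ht, Or.inr (Or.inl h)⟩
  · obtain ⟨t, ht, h⟩ := fin _ hi
    exact ⟨t, ht, Or.inr (Or.inr (Or.inl h))⟩
  · obtain ⟨t, ht, h⟩ := fin _ hi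
    exact ⟨t, ht, Or.inr (Or.inr (Or.inr h))⟩

variable (hX : IsPGroup 2 X) (hA : Odd (Nat.card A))
include hX hA

theorem fixed (H : Ab A E φ e W) {w : X} (hw : w ∈ W) (h : φ w = w) : w = 1 := by
  obtain ⟨j, hj⟩ := hX w
  induction j generalizing w with
  | zero => simpa using hj
  | succ j ih =>
    have h2 : w * w = 1 := ih (mul_mem hw hw) (by rw [map_mul, h]) (by
      rwa [← pow_two, ← pow_mul, ← pow_succ'])
    exact H.four.fixed_eq_one hA (H.inv2 w hw h2) h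

theorem fix_on (H : Ab A E φ e W) {χ : MulAut X} (hχ : χ ∈ A) (h : ∀ a ∈ E, χ a = a) :
    ∀ w ∈ W, χ w = w :=
  fix_of_fix_omega hX (odd_order hA hχ) H.comm (fun _ hw => H.map_mem χ hw)
    fun w hw hw2 => h w (H.inv2 w hw hw2)

theorem phi3 (H : Ab A E φ e W) {w : X} (hw : w ∈ W) : φ (φ (φ w)) = w := by
  have hE : ∀ a ∈ E, (φ * (φ * φ) : MulAut X) a = a := by
    intro a ha
    show φ (φ (φ a)) = a
    rcases H.four.cases ha with h | h | h | h <;> rw [h]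
    · simp
    · exact H.four.phi_three hA
    · rw [H.four.phi_three hA]
    · rw [map_mul, map_mul, map_mul, H.four.phi_three hA]
  exact H.fix_on hX hA (mul_mem H.four.mem (mul_mem H.four.mem H.four.mem)) hE w hw

theorem three (H : Ab A E φ e W) {w : X} (hw : w ∈ W) : w * φ w * φ (φ w) = 1 := by
  have h1 := H.map_mem φ hw
  have h2 := H.map_mem φ h1
  refine H.fixed hX hA (mul_mem (mul_mem hw h1) h2) ?_
  rw [map_mul, map_mul, H.phi3 hX hA hw, ← H.comm w hw _ (mul_mem h1 h2), mul_assoc]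

theorem agreeW (H : Ab A E φ e W) {ψ : MulAut X} (hψ : ψ ∈ A) :
    (∀ w ∈ W, ψ w = w) ∨ (∀ w ∈ W, ψ w = φ w) ∨ (∀ w ∈ W, ψ w = φ (φ w)) := by
  obtain ⟨χ, hχ, hfix, h⟩ := H.four.agree hA hψ
  have hW := H.fix_on hX hA hχ hfix
  rcases h with rfl | rfl | rfl
  · exact Or.inl hW
  · exact Or.inr (Or.inl fun w hw => by rw [MulAut.mul_apply, hW w hw])
  · exact Or.inr (Or.inr fun w hw => by rw [MulAut.mul_apply, hW w hw, MulAut.mul_apply])

theorem four_power (H : Ab A E φ e W) {n : ℕ} {w : X} (hw : w ∈ W) (h : w ^ 2 ^ n ≠ 1) {a : X}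
    (ha : a ∈ E) : ∃ t ∈ W, a = t ^ 2 ^ n := by
  haveI : Fact (Nat.Prime 2) := ⟨Nat.prime_two⟩
  let M : Subgroup X :=
    { carrier := {u | u ∈ E ∧ ∃ t ∈ W, u = t ^ 2 ^ n}
      one_mem' := ⟨one_mem E, 1, one_mem W, (one_pow _).symm⟩
      mul_mem' := by
        rintro _ _ ⟨hu, s, hs, rfl⟩ ⟨hv, t, ht, rfl⟩
        exact ⟨mul_mem hu hv, s * t, mul_mem hs ht,
          (Commute.mul_pow (H.comm s hs t ht) _).symm⟩
      inv_mem' := by
        rintro _ ⟨hu, s, hs, rfl⟩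
        exact ⟨inv_mem hu, s⁻¹, inv_mem hs, (inv_pow _ _).symm⟩ }
  obtain ⟨j, hj⟩ := hX (w ^ 2 ^ n)
  have hex : ∃ i, (w ^ 2 ^ n) ^ 2 ^ i = 1 := ⟨j, hj⟩
  obtain ⟨i, hi, hi1⟩ : ∃ i, (w ^ 2 ^ n) ^ 2 ^ (i + 1) = 1 ∧ (w ^ 2 ^ n) ^ 2 ^ i ≠ 1 := by
    classical
    have h0 : Nat.find hex ≠ 0 := fun h0 => h (by
      have := Nat.find_spec hex
      rwa [h0, pow_zero, pow_one] at this)
    obtain ⟨i, hi⟩ := Nat.exists_eq_succ_of_ne_zero h0
    exact ⟨i, by simpa [hi] using Nat.find_spec hex, Nat.find_min hex (by omega)⟩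
  have hu : (w ^ 2 ^ n) ^ 2 ^ i ∈ M := by
    refine ⟨H.inv2 _ (pow_mem (pow_mem hw _) _) ?_, w ^ 2 ^ i, pow_mem hw _, ?_⟩
    · rw [← pow_two, ← pow_mul, ← pow_succ]; exact hi
    · rw [← pow_mul, ← pow_mul, mul_comm]
  have hM : M = E := H.four.eq_of_invariant hA (fun u hu => hu.1) (fun u hu => by
    obtain ⟨hu, t, ht, rfl⟩ := hu
    exact ⟨H.four.invariant φ hu, φ t, H.map_mem φ ht, map_pow φ t _⟩) hu hi1
  exact (hM.ge ha).2

/-- The classes modulo squares as the orbit of a non-square. -/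
theorem classes_phi (H : Ab A E φ e W) {a : X} (ha : a ∈ W) (h1 : ∀ t ∈ W, a ≠ t * t) {w : X}
    (hw : w ∈ W) : ∃ t ∈ W,
      w = t * t ∨ w = a * (t * t) ∨ w = φ a * (t * t) ∨ w = φ (φ a) * (t * t) := by
  have h2 : ∀ t ∈ W, φ a ≠ t * t := fun t ht h => h1 (φ⁻¹ t) (H.map_mem φ⁻¹ ht) (by
    rw [← map_mul, ← h, MulAut.inv_apply_self])
  have h3 : ∀ t ∈ W, φ (φ a) ≠ t * t := fun t ht h => h2 (φ⁻¹ t) (H.map_mem φ⁻¹ ht) (by
    rw [← map_mul, ← h, MulAut.inv_apply_self])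
  have hb := H.map_mem φ ha
  have hc := H.map_mem φ hb
  have e : a * φ a = (φ (φ a))⁻¹ := eq_inv_of_mul_eq_one_left (H.three hX hA ha)
  obtain ⟨t, ht, h⟩ := H.classes ha hb h1 h2 (fun t ht h => h3 t⁻¹ (inv_mem ht) (by
    rw [← mul_inv_rev, ← h, e, inv_inv])) hw
  rcases h with h | h | h | h
  · exact ⟨t, ht, Or.inl h⟩
  · exact ⟨t, ht, Or.inr (Or.inl h)⟩
  · exact ⟨t, ht, Or.inr (Or.inr (Or.inl h))⟩
  · refine ⟨(φ (φ a))⁻¹ * t, mul_mem (inv_mem hc) ht, Or.inr (Or.inr (Or.inr ?_))⟩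
    rw [h, e, H.sq_mul (inv_mem hc) ht]
    group

/-- The operators are semilinear on the elements of order four. -/
theorem semilinear (H : Ab A E φ e W) (hG : Gen A) (g : X) {w : X} (hw : w ∈ W) (h4 : w * w ∈ E) :
    ⁅g, φ w⁆ = φ (φ ⁅g, w⁆) := by
  have hw1 := H.map_mem φ hw
  have h41 : φ w * φ w ∈ E := by rw [← map_mul]; exact H.four.invariant φ h4
  have hE : ∀ g : X, ⁅g, w⁆ ∈ E := fun g => H.bracket_mem_four g hw h4
  have hE1 : ∀ g : X, ⁅g, φ w⁆ ∈ E := fun g => H.bracket_mem_four g hw1 h41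
  let R : X →* X := MonoidHom.mk' (fun g => ⁅g, φ w⁆ * φ (φ ⁅g, w⁆)) fun a b => by
    rw [H.bracket_comp a b hw1 (hE1 b), H.bracket_comp a b hw (hE b), map_mul, map_mul]
    have hc := H.four.comm (hE1 b) (φ (φ ⁅a, w⁆))
    calc ⁅a, φ w⁆ * ⁅b, φ w⁆ * (φ (φ ⁅a, w⁆) * φ (φ ⁅b, w⁆))
        = ⁅a, φ w⁆ * (⁅b, φ w⁆ * φ (φ ⁅a, w⁆)) * φ (φ ⁅b, w⁆) := by group
      _ = ⁅a, φ w⁆ * (φ (φ ⁅a, w⁆) * ⁅b, φ w⁆) * φ (φ ⁅b, w⁆) := by rw [hc]
      _ = _ := by group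
  have hRE : ∀ g, R g ∈ E := fun g =>
    mul_mem (hE1 g) (H.four.invariant φ (H.four.invariant φ (hE g)))
  suffices hR : R g = 1 by
    have h : ⁅g, φ w⁆ * φ (φ ⁅g, w⁆) = 1 := hR
    rw [eq_inv_of_mul_eq_one_left h,
      inv_eq_of_mul_eq_one_right (H.four.sq _ (H.four.invariant φ (H.four.invariant φ (hE g))))]
  suffices hR : R = 1 by rw [hR, MonoidHom.one_apply]
  refine MonoidHom.eq_of_eqOn_dense hG ?_
  rintro _ ⟨ψ, hψ, x, rfl⟩
  rw [MonoidHom.one_apply, map_mul, map_inv, inv_mul_eq_one]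
  have hw2 := H.map_mem φ hw1
  have hs : ⁅x, φ (φ w)⁆ = ⁅x, w⁆ * ⁅x, φ w⁆ := by
    have h := congrArg (fun u => ⁅x, u⁆) (H.three hX hA hw)
    simp only [H.bracket_mul x (mul_mem hw hw1) hw2, H.bracket_mul x hw hw1,
      commutatorElement_one_right] at h
    rw [← inv_eq_of_mul_eq_one_right h,
      inv_eq_of_mul_eq_one_right (H.four.sq _ (mul_mem (hE x) (hE1 x)))]
  have hψe : ∀ u : X, ∀ v ∈ W, ψ v = u → ⁅ψ x, u⁆ = ψ ⁅x, v⁆ := fun u v _ h => by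
    rw [map_commutatorElement, h]
  set a := ⁅x, w⁆ with hadef
  set b := ⁅x, φ w⁆ with hbdef
  have ha : a ∈ W := H.le (hE x)
  have hb : b ∈ W := H.le (hE1 x)
  have hEc : ∀ u ∈ E, ∀ v ∈ E, u * v = v * u := fun u _ v hv => H.four.comm hv u
  have h3E : ∀ u ∈ E, φ (φ u) = φ u * u := fun u hu => by
    have h := H.three hX hA (H.le hu)
    rw [← inv_eq_of_mul_eq_one_right h, inv_eq_of_mul_eq_one_right
      (H.four.sq _ (mul_mem hu (H.four.invariant φ hu))), hEc _ hu _ (H.four.invariant φ hu)]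
  show b * φ (φ a) = ⁅ψ x, φ w⁆ * φ (φ ⁅ψ x, w⁆)
  rcases H.agreeW hX hA hψ with h | h | h
  · rw [hψe _ _ hw1 (h _ hw1), hψe _ _ hw (h _ hw), h _ hb, h _ ha]
  · rw [hψe (φ w) w hw (h _ hw), hψe w (φ (φ w)) hw2 ((h _ hw2).trans (H.phi3 hX hA hw)),
      h _ ha, hs, map_mul ψ, h _ ha, h _ hb, map_mul, map_mul, H.phi3 hX hA ha, H.phi3 hX hA hb,
      h3E a (hE x)]
    rw [hEc b (hE1 x) _ (mul_mem (H.four.invariant φ (hE x)) (hE x)), mul_assoc]
  · rw [hψe (φ w) (φ (φ w)) hw2 (by rw [h _ hw2, H.phi3 hX hA hw1]),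
      hψe w (φ w) hw1 (by rw [h _ hw1, H.phi3 hX hA hw]), hs, map_mul ψ, h _ ha, h _ hb,
      H.phi3 hX hA (H.map_mem φ hb)]
    have h5 : φ (φ b) * φ b = b := by
      have h6 := h3E b (hE1 x)
      rw [h6, hEc (φ b) (H.four.invariant φ (hE1 x)) b (hE1 x), mul_assoc,
        H.four.sq _ (H.four.invariant φ (hE1 x)), mul_one]
    rw [mul_assoc, h5]
    exact hEc _ (hE1 x) _ (H.four.invariant φ (H.four.invariant φ (hE x)))

end Ab

end CfsgLib.NoSCN
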