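import Cfsg.Agent.Lib.NoSCN.Basic

/-!
Small subgroups and commutator homomorphisms in groups of class two.
-/

set_option autoImplicit false
set_option linter.unusedSectionVars false

namespace CfsgLib.NoSCN

open scoped commutatorElement

variable {X : Type*} [Group X]

/-- The union of the cosets `N` and `s N`, for `s * s ∈ N`. -/
def pairSub (N : Subgroup X) [N.Normal] (s : X) : Subgroup X :=
  (Subgroup.zpowers (QuotientGroup.mk' N s)).comap (QuotientGroup.mk' N)

theorem le_pairSub (N : Subgroup X) [N.Normal] (s : X) : N ≤ pairSub N s := fun g hg => by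
  rw [pairSub, Subgroup.mem_comap, (QuotientGroup.eq_one_iff g).2 hg |> fun h =>
    show QuotientGroup.mk' N g = 1 from h]
  exact one_mem _

theorem self_mem_pairSub (N : Subgroup X) [N.Normal] (s : X) : s ∈ pairSub N s :=
  Subgroup.mem_zpowers _

theorem mem_pairSub {N : Subgroup X} [N.Normal] {s : X} (h : s * s ∈ N) {g : X}
    (hg : g ∈ pairSub N s) : g ∈ N ∨ s⁻¹ * g ∈ N := by
  obtain ⟨i, hi⟩ := Subgroup.mem_zpowers_iff.1 (Subgroup.mem_comap.1 hg)
  have h2 : (QuotientGroup.mk' N s) * (QuotientGroup.mk' N s) = 1 := by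
    rw [← map_mul]; exact (QuotientGroup.eq_one_iff _).2 h
  rcases Int.even_or_odd i with ⟨j, rfl⟩ | ⟨j, rfl⟩
  · rw [zpow_add, ← (Commute.refl (QuotientGroup.mk' N s)).mul_zpow, h2, one_zpow] at hi
    exact Or.inl ((QuotientGroup.eq_one_iff g).1 hi.symm)
  · rw [zpow_add_one, two_mul, zpow_add, ← (Commute.refl (QuotientGroup.mk' N s)).mul_zpow, h2,
      one_zpow, one_mul] at hi
    exact Or.inr (QuotientGroup.eq.1 hi)

theorem pairSub_normal {N : Subgroup X} [N.Normal] (hc : ∀ a b : X, ⁅a, b⁆ ∈ N) (s : X) :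
    (pairSub N s).Normal := ⟨fun g hg a => by
  rw [show a * g * a⁻¹ = ⁅a, g⁆ * g by simp [commutatorElement_def]]
  exact mul_mem (le_pairSub N s (hc a g)) hg⟩

theorem pairSub_comm {N : Subgroup X} [N.Normal] (hN : ∀ a ∈ N, ∀ b ∈ N, a * b = b * a) {s : X}
    (hs : ∀ a ∈ N, s * a = a * s) (h : s * s ∈ N) : IsMulCommutative (pairSub N s) := by
  have hs' : ∀ g ∈ pairSub N s, s * g = g * s := by
    intro g hg
    rcases mem_pairSub h hg with hg | hg
    · exact hs g hg
    · have := hs _ hg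
      calc s * g = s * (s * (s⁻¹ * g)) := by group
        _ = s * ((s⁻¹ * g) * s) := by rw [this]
        _ = g * s := by group
  refine ⟨⟨fun a b => Subtype.ext ?_⟩⟩
  have key : ∀ g ∈ pairSub N s, ∀ n ∈ N, g * n = n * g := by
    intro g hg n hn
    rcases mem_pairSub h hg with hg | hg
    · exact hN g hg n hn
    · calc g * n = s * ((s⁻¹ * g) * n) := by group
        _ = s * (n * (s⁻¹ * g)) := by rw [hN _ hg n hn]
        _ = (s * n) * (s⁻¹ * g) := by group
        _ = (n * s) * (s⁻¹ * g) := by rw [hs n hn]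
        _ = n * g := by group
  rcases mem_pairSub h b.2 with hb | hb
  · exact key _ a.2 _ hb
  · calc (a : X) * b = ((a : X) * s) * (s⁻¹ * b) := by group
      _ = (s * a) * (s⁻¹ * b) := by rw [hs' _ a.2]
      _ = s * ((a : X) * (s⁻¹ * b)) := by group
      _ = s * ((s⁻¹ * b) * a) := by rw [key _ a.2 _ hb]
      _ = (b : X) * a := by group

/-- In class two the commutator is multiplicative in the first argument. -/
theorem comm_mul_left (hc : ∀ a b : X, ⁅a, b⁆ ∈ Subgroup.center X) (a b u : X) :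
    ⁅a * b, u⁆ = ⁅a, u⁆ * ⁅b, u⁆ := by
  have h := Subgroup.mem_center_iff.1 (hc b u) a
  have e : ⁅a * b, u⁆ = (a * ⁅b, u⁆) * a⁻¹ * ⁅a, u⁆ := by simp [commutatorElement_def]; group
  rw [e, h, mul_inv_cancel_right]
  exact (Subgroup.mem_center_iff.1 (hc b u) _).symm

/-- In class two the commutator is multiplicative in the second argument. -/
theorem comm_mul_right (hc : ∀ a b : X, ⁅a, b⁆ ∈ Subgroup.center X) (u a b : X) :
    ⁅u, a * b⁆ = ⁅u, a⁆ * ⁅u, b⁆ := by
  rw [← commutatorElement_inv (a * b) u, comm_mul_left hc, mul_inv_rev, commutatorElement_inv,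
    commutatorElement_inv]
  exact (Subgroup.mem_center_iff.1 (hc u b) _).symm

/-- `g ↦ ⁅g, u⁆`. -/
def commHom (hc : ∀ a b : X, ⁅a, b⁆ ∈ Subgroup.center X) (u : X) : X →* Subgroup.center X :=
  MonoidHom.mk' (fun g => ⟨⁅g, u⁆, hc g u⟩) fun a b => Subtype.ext (comm_mul_left hc a b u)

/-- The elements whose commutator with `u` lies in `M`. -/
def commPre (hc : ∀ a b : X, ⁅a, b⁆ ∈ Subgroup.center X) (M : Subgroup X) (u : X) : Subgroup X :=
  (M.subgroupOf (Subgroup.center X)).comap (commHom hc u)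

theorem mem_commPre {hc : ∀ a b : X, ⁅a, b⁆ ∈ Subgroup.center X} {M : Subgroup X} {u g : X} :
    g ∈ commPre hc M u ↔ ⁅g, u⁆ ∈ M := Iff.rfl

theorem center_le_commPre (hc : ∀ a b : X, ⁅a, b⁆ ∈ Subgroup.center X) (M : Subgroup X) (u : X) :
    Subgroup.center X ≤ commPre hc M u := fun z hz => by
  rw [mem_commPre, commutatorElement_eq_one_iff_mul_comm.2 (Subgroup.mem_center_iff.1 hz u).symm]
  exact one_mem M

theorem index_commPre_le [Finite X] (hc : ∀ a b : X, ⁅a, b⁆ ∈ Subgroup.center X) {M : Subgroup X}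
    (hM : M ≤ Subgroup.center X) {k : ℕ} (hcard : Nat.card (Subgroup.center X) ≤ k * Nat.card M)
    (u : X) : (commPre hc M u).index ≤ k := by
  rw [commPre, Subgroup.index_comap]
  refine (Nat.le_of_dvd (Nat.pos_of_ne_zero Subgroup.FiniteIndex.index_ne_zero)
    (Subgroup.relIndex_dvd_index_of_normal _ _)).trans ?_
  have h := (M.subgroupOf (Subgroup.center X)).card_mul_index
  rw [Nat.card_congr (Subgroup.subgroupOfEquivOfLe hM).toEquiv] at h
  have hpos : 0 < Nat.card M := Nat.card_pos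
  nlinarith

end CfsgLib.NoSCN
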